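import Groth.Agent.Twin38.Main
import Groth.Agent.Rank2Red38.Cell3

/-! The isomorphism of pinned groups with isomorphic root data. -/

set_option autoImplicit false
set_option linter.style.haveILetI false

universe u

open CategoryTheory CategoryTheory.Limits AlgebraicGeometry MonoidalCategory CartesianMonoidalCategory
open scoped MonObj Classical

noncomputable section

namespace Groth.Agent.Twin38

open GrpSchLib Rank2Red38 RedRk29 BigCell29

variable {S : Scheme.{u}} {G G' : Over S} [GrpObj G] [GrpObj G']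

theorem exists_dual_rescale_pos (D : Red.Pinning G) : ∃ k : D.idx → Γ(S, ⊤)ˣ, (∀ a ∈ D.base.support, k a = 1) ∧
    ∀ a ∈ D.base.support, IsDual (rescale D k).toSplitRed a := by
  classical
  choose c hc using fun a => exists_isDualPair D.toSplitRed a
  let k : D.idx → Γ(S, ⊤)ˣ := fun b =>
    if D.P.reflectionPerm b b ∈ D.base.support then (c (D.P.reflectionPerm b b))⁻¹ else 1
  refine ⟨k, fun a ha => if_neg fun h => ?_, fun a ha X x y hxy => ?_⟩
  · have hP := (RootData.Simple.of_base D.base).posOf_isPosSys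
    exact hP.disjoint (RootData.root_mem_natSpan (Finset.mem_coe.mpr ha)) (RootData.root_mem_natSpan (Finset.mem_coe.mpr h))
  have hnn : D.P.reflectionPerm (D.P.reflectionPerm a a) (D.P.reflectionPerm a a) = a := by
    have hneg : ∀ j, D.P.root (D.P.reflectionPerm j j) = -D.P.root j := fun j => by
      rw [RootPairing.root_reflectionPerm, RootPairing.reflection_apply_self]
    apply D.P.root.injective
    rw [hneg, hneg, neg_neg]
  have hkn : k (D.P.reflectionPerm a a) = (c a)⁻¹ := by simp only [k, hnn, if_pos ha]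
  have hna : D.P.reflectionPerm a a ∉ D.base.support := fun h => by
    have hP := (RootData.Simple.of_base D.base).posOf_isPosSys
    exact hP.disjoint (RootData.root_mem_natSpan (Finset.mem_coe.mpr ha)) (RootData.root_mem_natSpan (Finset.mem_coe.mpr h))
  have hka : k a = 1 := if_neg hna
  let d : Γ(X.left, ⊤) := glob X ((c a : Γ(S, ⊤)))
  let d' : Γ(X.left, ⊤) := glob X ((c a)⁻¹ : Γ(S, ⊤)ˣ)
  have hd : d * d' = 1 := by rw [← map_mul, Units.mul_inv, map_one]
  have hxy' : IsUnit (1 + X.hom.appTop.hom (c a : Γ(S, ⊤)) * Red.gaFn x * Red.gaFn (GaPts.ptOfFn (d' * Red.gaFn y))) := by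
    rw [GaPts.gaFn_ptOfFn]
    convert hxy using 2
    show d * Red.gaFn x * (d' * Red.gaFn y) = Red.gaFn x * Red.gaFn y
    linear_combination (Red.gaFn x * Red.gaFn y) * hd
  obtain ⟨x', y', z, hz, hx', hy', h⟩ := hc a X x (GaPts.ptOfFn (d' * Red.gaFn y)) hxy'
  rw [GaPts.gaFn_ptOfFn] at hz hy'
  change Red.gmFn z = 1 + d * Red.gaFn x * (d' * Red.gaFn y) at hz
  refine ⟨x', GaPts.ptOfFn (d * Red.gaFn y'), z, hz.trans ?_, hx', ?_, ?_⟩
  · linear_combination (Red.gaFn x * Red.gaFn y) * hd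
  · rw [GaPts.gaFn_ptOfFn]
    linear_combination d * hy' + Red.gaFn y * hd
  · have ex : ∀ w : X ⟶ Red.Ga S, w ≫ scaleHom (((1 : Γ(S, ⊤)ˣ)) : Γ(S, ⊤)) = w := fun w => by
      rw [Units.val_one, scaleHom_one, Category.comp_id]
    have ey : ∀ w : X ⟶ Red.Ga S, w ≫ scaleHom (((c a)⁻¹ : Γ(S, ⊤)ˣ) : Γ(S, ⊤)) = GaPts.ptOfFn (d' * Red.gaFn w) :=
      fun w => GaPts.gaFn_injective (by simp only [gaFn_scaleHom, GaPts.gaFn_ptOfFn]; rfl)
    have ey' : GaPts.ptOfFn (d * Red.gaFn y') ≫ scaleHom (((c a)⁻¹ : Γ(S, ⊤)ˣ) : Γ(S, ⊤)) = y' := by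
      rw [ey, GaPts.gaFn_ptOfFn]
      exact GaPts.gaFn_injective (by simp only [GaPts.gaFn_ptOfFn]; linear_combination Red.gaFn y' * hd)
    change (x ≫ scaleHom (k a : Γ(S, ⊤)) ≫ D.u a) *
        (y ≫ scaleHom (k (D.P.reflectionPerm a a) : Γ(S, ⊤)) ≫ D.u (D.P.reflectionPerm a a)) =
      (GaPts.ptOfFn (d * Red.gaFn y') ≫ scaleHom (k (D.P.reflectionPerm a a) : Γ(S, ⊤)) ≫ D.u (D.P.reflectionPerm a a)) *
        (z ≫ corootHom D.toSplitRed a ≫ D.i) * (x' ≫ scaleHom (k a : Γ(S, ⊤)) ≫ D.u a)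
    rw [hka, hkn]
    simp only [← Category.assoc, ex, ey', ey y]
    simpa only [Category.assoc, corootHom, negIdx] using h

/-- An endomorphism fixing the torus and a simple root group fixes the dual opposite root group. -/
theorem fix_neg [Nonempty S] {D : Red.Pinning G} {a : D.idx} (ha : a ∈ D.base.support)
    (hd : IsDual D.toSplitRed a) (φ : G ⟶ G) [IsMonHom φ] (hT : D.i ≫ φ = D.i) (hu : D.u a ≫ φ = D.u a) :
    D.u (neg' D.toSplitRed a) ≫ φ = D.u (neg' D.toSplitRed a) := by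
  have hI : ∀ (X : Over S) (t : X ⟶ D.T), I D.toSplitRed X t ≫ φ = I D.toSplitRed X t := fun X t => by
    show (t ≫ D.i) ≫ φ = t ≫ D.i
    rw [Category.assoc, hT]
  have hU : ∀ (X : Over S) (x : Γ(X.left, ⊤)), U D.toSplitRed X a x ≫ φ = U D.toSplitRed X a x := fun X x => by
    simp only [U, Category.assoc, hu]
  obtain ⟨lam, hgen, hlam⟩ := exists_form_posRoots D.toSplitRed D.base
  have hla : 0 < lam (D.P.root a) := hlam a (by
    rw [posRoots_eq]; simp [SgnSet, RootPairing.Base.height_one_of_mem_support ha])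
  have hF : IsWeighted D.toSplitRed (fun _ : Fin 1 => neg' D.toSplitRed a)
      (fun X x => U D.toSplitRed X (neg' D.toSplitRed a) (x 0) ≫ φ) := by
    refine ⟨fun X X' g x => ?_, fun X t x => ?_, fun X => ?_⟩
    · show g ≫ U D.toSplitRed X _ (x 0) ≫ φ = _
      rw [← Category.assoc, comp_U]
    · show _ = U D.toSplitRed X _ (_ * x 0) ≫ φ
      rw [← conj_U, MonObj.mul_comp, MonObj.mul_comp, GrpObj.inv_comp, hI]
    · show U D.toSplitRed X _ 0 ≫ φ = 1
      rw [(U_oneParam D.toSplitRed (X := X) _).zero, MonObj.one_comp]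
  obtain ⟨C, hC⟩ := (hasNormalForm D.toSplitRed).exists_coord (-lam) (fun c => by simpa using hgen c) 1 _
    (fun _ => by simp [root_neg', hla]) _ hF [neg' D.toSplitRed a] (List.nodup_singleton _)
    (fun c hc => by simp [List.mem_singleton.mp hc, root_neg', hla]) (fun _ _ => 1) (fun d m hdm => by
      rw [Fin.sum_univ_one] at hdm
      have h1 := red1 (neg' D.toSplitRed a) d (m 0) hdm
      rw [h1, one_smul] at hdm
      exact ⟨by simp [eq_of_root_eq hdm], funext fun k => by rw [Fin.eq_zero k, h1]⟩)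
  have hv : ∀ (X : Over S) (x : Γ(X.left, ⊤)), U D.toSplitRed X (neg' D.toSplitRed a) x ≫ φ =
      U D.toSplitRed X (neg' D.toSplitRed a) (glob X (C (neg' D.toSplitRed a)) * x) := fun X x => by
    have := hC X fun _ => x
    simpa [rootProd] using this
  set c0 := C (neg' D.toSplitRed a)
  have key : ∀ (R : Type u) [CommRing R] (f : Spec (CommRingCat.of R) ⟶ S) [IsOpenImmersion f],
      resTo f c0 = (1 : R) := by
    intro R _ f _
    let B := DualNumber R
    let X := tObj f B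
    have hnil : IsNilpotent (DualNumber.eps : B) := ⟨2, by rw [sq, DualNumber.eps_mul_eps]⟩
    let k := tVal f B
    let y : Γ(X.left, ⊤) := k.symm DualNumber.eps
    have hny : IsNilpotent y := hnil.map k.symm
    obtain ⟨u1, hu1⟩ : IsUnit (1 + 1 * y) := by rw [one_mul]; exact hny.isUnit_one_add
    obtain ⟨u2, hu2⟩ : IsUnit (1 + 1 * (glob X c0 * y)) := by
      rw [one_mul]; exact (Commute.isNilpotent_mul_left (Commute.all _ _) hny).isUnit_one_add
    let Φ := sys D.toSplitRed X hd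
    have r1 := congrArg (· ≫ φ) (Φ.rule 1 y u1 hu1)
    have r2 := Φ.rule 1 (glob X c0 * y) u2 hu2
    change (U D.toSplitRed X a 1 * U D.toSplitRed X (neg' D.toSplitRed a) y) ≫ φ = (U D.toSplitRed X (neg' D.toSplitRed a) _ *
      I D.toSplitRed X _ * U D.toSplitRed X a _) ≫ φ at r1
    rw [MonObj.mul_comp, MonObj.mul_comp, MonObj.mul_comp, hU, hv, hv, hI, hU] at r1
    obtain ⟨-, -, h⟩ := cell3_inj D.toSplitRed a (r1.symm.trans r2)
    simp only [mul_one] at h
    have h' : u1 = u2 := inv_inj.mp (Units.ext h)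
    have h2 : y = glob X c0 * y := by
      have := congrArg Units.val h'
      rw [hu1, hu2, one_mul, one_mul] at this
      exact add_left_cancel this
    have h3 := congrArg (fun w => TrivSqZeroExt.snd (k w)) h2
    simp only [map_mul, y, k, RingEquiv.apply_symm_apply, X, tVal_glob] at h3
    rw [DualNumber.snd_eps, snd_C_eps] at h3
    exact h3.symm
  refine ext_tObj fun R _ f _ B _ _ j => ?_
  rw [← Category.assoc, pt_comp_eq D.toSplitRed (X := tObj f B), hv]
  congr 1
  have hg : glob (tObj f B) c0 = 1 := by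
    apply (tVal f B).injective
    rw [tVal_glob, key R f, map_one, map_one]
  rw [hg, one_mul]

namespace Twist

variable {D : Red.Pinning G} {D' : Red.Pinning G'}

/-- Dually pinned groups with isomorphic root data are isomorphic in exactly one way. -/
theorem existsUnique_iso_dual [Nonempty S] (T : Twist D D') (T' : Twist D' D) (hq : ∀ a, T.q a = 1)
    (hq' : ∀ a, T'.q a = 1) (hdd : ∀ a, T'.d (T.d a) = a) (hMM : ∀ m, T.hM (T'.hM m) = m)
    (hMM' : ∀ m, T'.hM (T.hM m) = m) (hd : ∀ a ∈ D.base.support, IsDual D.toSplitRed a)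
    (hd' : ∀ a ∈ D'.base.support, IsDual D'.toSplitRed a) :
    ∃! f : G ≅ G', IsMonHom f.hom ∧ D.i ≫ f.hom = T.hT ≫ D'.i ∧
      ∀ a ∈ D.base.support, D.u a ≫ f.hom = D'.u (T.d a) := by
  obtain ⟨f, hf, hfT, hfU⟩ := T.exists_hom_simple hd hd'
  obtain ⟨g, hg, hgT, hgU⟩ := T'.exists_hom_simple hd' hd
  haveI := hf; haveI := hg
  have hth : ∀ (X : Over S) (a : D.idx) (x : Γ(X.left, ⊤)), T.th X a x = x := fun X a x => by
    rw [th_apply, hq a, pow_one]
  have hth' : ∀ (X : Over S) (a : D'.idx) (x : Γ(X.left, ⊤)), T'.th X a x = x := fun X a x => by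
    rw [th_apply, hq' a, pow_one]
  have hTT : T.hT ≫ T'.hT = 𝟙 D.T := torus_ext D fun m => by
    rw [dsVal_hT]
    have h1 := dsVal_hT T (𝟙 D.T) (T'.hM m)
    simp only [Category.id_comp] at h1
    rw [h1, hMM, Category.id_comp]
  have hTT' : T'.hT ≫ T.hT = 𝟙 D'.T := torus_ext D' fun m => by
    rw [dsVal_hT]
    have h1 := dsVal_hT T' (𝟙 D'.T) (T.hM m)
    simp only [Category.id_comp] at h1
    rw [h1, hMM', Category.id_comp]
  have hfu : ∀ a ∈ D.base.support, D.u a ≫ f = D'.u (T.d a) ∧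
      D.u (neg' D.toSplitRed a) ≫ f = D'.u (neg' D'.toSplitRed (T.d a)) := fun a ha => by
    have h := hfU a ha (Red.Ga S) (Red.gaFn (𝟙 _))
    simp only [hth, ← pt_comp_eq D.toSplitRed, ← pt_comp_eq D'.toSplitRed, Category.id_comp] at h
    exact h
  have hgu : ∀ a ∈ D'.base.support, D'.u a ≫ g = D.u (T'.d a) ∧
      D'.u (neg' D'.toSplitRed a) ≫ g = D.u (neg' D.toSplitRed (T'.d a)) := fun a ha => by
    have h := hgU a ha (Red.Ga S) (Red.gaFn (𝟙 _))
    simp only [hth', ← pt_comp_eq D.toSplitRed, ← pt_comp_eq D'.toSplitRed, Category.id_comp] at h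
    exact h
  have hfg : f ≫ g = 𝟙 G := by
    refine RedRk29.hom_ext_simple D _ _ ?_ fun a ha => ⟨?_, ?_⟩
    · rw [← Category.assoc, hfT, Category.assoc, hgT, ← Category.assoc, hTT, Category.id_comp, Category.comp_id]
    · rw [← Category.assoc, (hfu a ha).1, (hgu _ ((T.simple a).mp ha)).1, hdd, Category.comp_id]
    · rw [← Category.assoc, (hfu a ha).2, (hgu _ ((T.simple a).mp ha)).2, hdd, Category.comp_id]
  have hdd' : ∀ b, T.d (T'.d b) = b := fun b => by
    obtain ⟨a, rfl⟩ := T.d.surjective b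
    rw [hdd]
  have hgf : g ≫ f = 𝟙 G' := by
    refine RedRk29.hom_ext_simple D' _ _ ?_ fun a ha => ⟨?_, ?_⟩
    · rw [← Category.assoc, hgT, Category.assoc, hfT, ← Category.assoc, hTT', Category.id_comp, Category.comp_id]
    · rw [← Category.assoc, (hgu a ha).1, (hfu _ ((T'.simple a).mp ha)).1, hdd', Category.comp_id]
    · rw [← Category.assoc, (hgu a ha).2, (hfu _ ((T'.simple a).mp ha)).2, hdd', Category.comp_id]
  refine ⟨⟨f, g, hfg, hgf⟩, ⟨hf, hfT, fun a ha => (hfu a ha).1⟩, fun f' ⟨hm, hT', hU'⟩ => ?_⟩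
  haveI := hm
  refine Iso.ext ?_
  show f'.hom = f
  have h1 : D.i ≫ f'.hom ≫ g = D.i := by
    rw [← Category.assoc, hT', Category.assoc, hgT, ← Category.assoc, hTT, Category.id_comp]
  have h2 : ∀ a ∈ D.base.support, D.u a ≫ f'.hom ≫ g = D.u a := fun a ha => by
    rw [← Category.assoc, hU' a ha, (hgu _ ((T.simple a).mp ha)).1, hdd]
  have h3 : f'.hom ≫ g = 𝟙 G := RedRk29.hom_ext_simple D _ _ (by rw [h1, Category.comp_id]) fun a ha =>
    ⟨by rw [h2 a ha, Category.comp_id], by rw [Category.comp_id]; exact fix_neg ha (hd a ha) _ h1 (h2 a ha)⟩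
  calc f'.hom = f'.hom ≫ g ≫ f := by rw [hgf, Category.comp_id]
    _ = f := by rw [← Category.assoc, h3, Category.id_comp]

/-- A morphism of root data seen between rescaled pinnings. -/
def rescale' (T : Twist D D') (k : D.idx → Γ(S, ⊤)ˣ) (k' : D'.idx → Γ(S, ⊤)ˣ) :
    Twist (rescale D k) (rescale D' k') :=
  ⟨T.p, T.p_pos, T.p_add, T.hM, T.d, T.q, T.q_pow, T.root, T.coroot, T.simple⟩

/-- Pinned groups with isomorphic root data are isomorphic in exactly one way. -/
theorem existsUnique_iso [Nonempty S] (T : Twist D D') (T' : Twist D' D) (hq : ∀ a, T.q a = 1) (hq' : ∀ a, T'.q a = 1)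
    (hdd : ∀ a, T'.d (T.d a) = a) (hMM : ∀ m, T.hM (T'.hM m) = m) (hMM' : ∀ m, T'.hM (T.hM m) = m) :
    ∃! f : G ≅ G', IsMonHom f.hom ∧ D.i ≫ f.hom = T.hT ≫ D'.i ∧
      ∀ a ∈ D.base.support, D.u a ≫ f.hom = D'.u (T.d a) := by
  obtain ⟨k, hk1, hk⟩ := exists_dual_rescale_pos D
  obtain ⟨k', hk1', hk'⟩ := exists_dual_rescale_pos D'
  have hpos : ∀ a ∈ D.base.support, (rescale D k).u a = D.u a := fun a ha => by
    rw [rescale_u, hk1 a ha, Units.val_one, scaleHom_one, Category.id_comp]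
  have hpos' : ∀ a ∈ D'.base.support, (rescale D' k').u a = D'.u a := fun a ha => by
    rw [rescale_u, hk1' a ha, Units.val_one, scaleHom_one, Category.id_comp]
  obtain ⟨f, ⟨hf, hfT, hfU⟩, huniq⟩ :=
    existsUnique_iso_dual (T.rescale' k k') (T'.rescale' k' k) hq hq' hdd hMM hMM' hk hk'
  refine ⟨f, ⟨hf, hfT, fun a ha => ?_⟩, fun f' ⟨hm, hT', hU'⟩ => huniq f' ⟨hm, hT', fun a ha => ?_⟩⟩
  · rw [← hpos a ha, ← hpos' _ ((T.simple a).mp ha)]; exact hfU a ha
  · rw [hpos a ha]; exact (hU' a ha).trans (hpos' _ ((T.simple a).mp ha)).symm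

theorem flip_toPerfPair {D : Red.SplitRed G} (n : Module.Dual ℤ D.M) : D.P.flip.toPerfPair n = n := by
  refine LinearMap.ext fun m => ?_
  show D.P.toLinearMap m n = n m
  rw [D.pairing_eq]
  rfl

/-- An equivalence of root data carrying simple roots to simple roots. -/
def ofEquiv (h : RootPairing.Equiv D'.P D.P)
    (hΔ : ∀ a' : D'.idx, a' ∈ D'.base.support ↔ h.indexEquiv a' ∈ D.base.support) : Twist D D' where
  p := 1
  p_pos := one_pos
  p_add _ _ _ := by simp
  hM := h.weightMap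
  d := h.indexEquiv.symm
  q := 1
  q_pow _ := ⟨0, rfl⟩
  root a := by
    show h.weightMap (D'.P.root (h.indexEquiv.symm a)) = ((1 : ℕ) : ℤ) • D.P.root a
    rw [Nat.cast_one, one_smul, RootPairing.Hom.root_weightMap_apply, Equiv.apply_symm_apply]
  coroot a := by
    show h.weightMap.dualMap (D.P.coroot a) = ((1 : ℕ) : ℤ) • D'.P.coroot (h.indexEquiv.symm a)
    have e := RootPairing.Hom.weight_coweight_transpose_apply D'.P D.P (D.P.coroot a) h.toHom
    rw [flip_toPerfPair (D := D.toSplitRed), flip_toPerfPair (D := D'.toSplitRed),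
      RootPairing.Hom.coroot_coweightMap_apply] at e
    rw [Nat.cast_one, one_smul]
    exact e
  simple a := by
    rw [hΔ, Equiv.apply_symm_apply]

/-- The isomorphism attached to an equivalence of root data carrying simple roots to simple roots. -/
theorem existsUnique_iso_equiv [Nonempty S] (h : RootPairing.Equiv D'.P D.P)
    (hΔ : ∀ a' : D'.idx, a' ∈ D'.base.support ↔ h.indexEquiv a' ∈ D.base.support) :
    ∃! f : G ≅ G', IsMonHom f.hom ∧
      D.i ≫ f.hom = D.split.hom.hom.hom ≫ Red.DSmap S h.weightMap.toAddMonoidHom ≫ D'.split.inv.hom.hom ≫ D'.i ∧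
      ∀ a' : D'.idx, a' ∈ D'.base.support → D.u (h.indexEquiv a') ≫ f.hom = D'.u a' := by
  let e := RootPairing.Equiv.symm D'.P D.P h
  have hΔ' : ∀ a, a ∈ D.base.support ↔ e.indexEquiv a ∈ D'.base.support := fun a => by
    show _ ↔ h.indexEquiv.symm a ∈ _
    rw [hΔ, Equiv.apply_symm_apply]
  obtain ⟨f, ⟨hf, hfT, hfU⟩, hu⟩ := existsUnique_iso (ofEquiv h hΔ) (ofEquiv e hΔ') (fun _ => rfl) (fun _ => rfl)
    (fun a => h.indexEquiv.apply_symm_apply a)
    (fun m => RootPairing.Equiv.weightMap_weightEquiv_symm D'.P D.P h m)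
    (fun m => RootPairing.Equiv.weightEquiv_symm_weightMap D'.P D.P h m)
  have key : ∀ g : G ⟶ G', (∀ a ∈ D.base.support, D.u a ≫ g = D'.u (h.indexEquiv.symm a)) ↔
      ∀ a' : D'.idx, a' ∈ D'.base.support → D.u (h.indexEquiv a') ≫ g = D'.u a' := fun g =>
    ⟨fun H a' ha' => by rw [H _ ((hΔ a').mp ha'), Equiv.symm_apply_apply],
      fun H a ha => by
        have := H (h.indexEquiv.symm a) ((hΔ _).mpr (by rwa [Equiv.apply_symm_apply]))
        rwa [Equiv.apply_symm_apply] at this⟩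
  refine ⟨f, ⟨hf, hfT.trans (by simp only [hT, Category.assoc]; rfl), (key _).mp hfU⟩,
    fun g ⟨hg, hgT, hgU⟩ => hu g ⟨hg, hgT.trans (by simp only [hT, Category.assoc]; rfl), (key _).mpr hgU⟩⟩

end Twist

end Groth.Agent.Twin38
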