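import Groth.Agent.Twin38.Iso
import Groth.Agent.RedRk29.NormWeyl

/-! Split groups with isomorphic root data are isomorphic. -/

set_option autoImplicit false
set_option linter.style.haveILetI false

universe u

open CategoryTheory CategoryTheory.Limits AlgebraicGeometry MonoidalCategory CartesianMonoidalCategory
open scoped MonObj Classical

noncomputable section

namespace Groth.Agent.Twin38

section Base

variable {I0 I1 M N M1 N1 : Type*} [AddCommGroup M] [AddCommGroup N] [AddCommGroup M1] [AddCommGroup N1]
  {P : RootPairing I0 ℤ M N} {Q : RootPairing I1 ℤ M1 N1}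

theorem coroot_indexEquiv (e : RootPairing.Equiv P Q) (i : I0) :
    Q.coroot (e.indexEquiv i) = (RootPairing.Equiv.coweightEquiv P Q e).symm (P.coroot i) := by
  rw [LinearEquiv.eq_symm_apply, RootPairing.Equiv.coweightEquiv_apply, RootPairing.Hom.coroot_coweightMap_apply,
    Equiv.symm_apply_apply]

/-- The image of a base under an equivalence of root pairings. -/
def baseMap (e : RootPairing.Equiv P Q) (b : P.Base) : Q.Base where
  support := b.support.image e.indexEquiv
  linearIndepOn_root := by
    rw [Finset.coe_image]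
    refine LinearIndepOn.image_of_comp e.indexEquiv Q.root ?_
    rw [show Q.root ∘ e.indexEquiv = (RootPairing.Equiv.weightEquiv P Q e).toLinearMap ∘ P.root from
      funext fun i => (RootPairing.Hom.root_weightMap_apply P Q i e.toHom).symm]
    exact b.linearIndepOn_root.map' _ (LinearEquiv.ker _)
  linearIndepOn_coroot := by
    rw [Finset.coe_image]
    refine LinearIndepOn.image_of_comp e.indexEquiv Q.coroot ?_
    rw [show Q.coroot ∘ e.indexEquiv = (RootPairing.Equiv.coweightEquiv P Q e).symm.toLinearMap ∘ P.coroot from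
      funext fun i => coroot_indexEquiv e i]
    exact b.linearIndepOn_coroot.map' _ (LinearEquiv.ker _)
  root_mem_or_neg_mem i := by
    obtain ⟨j, rfl⟩ := e.indexEquiv.surjective i
    have h : AddSubmonoid.closure (Q.root '' ↑(b.support.image e.indexEquiv)) =
        (AddSubmonoid.closure (P.root '' ↑b.support)).map (RootPairing.Equiv.weightEquiv P Q e).toLinearMap.toAddMonoidHom := by
      rw [AddMonoidHom.map_mclosure, Finset.coe_image, Set.image_image, Set.image_image]
      refine congrArg AddSubmonoid.closure (Set.image_congr' fun k => ?_)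
      exact (RootPairing.Hom.root_weightMap_apply P Q k e.toHom).symm
    rw [h, ← RootPairing.Hom.root_weightMap_apply P Q j e.toHom]
    exact (b.root_mem_or_neg_mem j).imp (fun h => ⟨_, h, rfl⟩) fun h => ⟨_, h, map_neg _ _⟩
  coroot_mem_or_neg_mem i := by
    obtain ⟨j, rfl⟩ := e.indexEquiv.surjective i
    have h : AddSubmonoid.closure (Q.coroot '' ↑(b.support.image e.indexEquiv)) =
        (AddSubmonoid.closure (P.coroot '' ↑b.support)).map
          (RootPairing.Equiv.coweightEquiv P Q e).symm.toLinearMap.toAddMonoidHom := by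
      rw [AddMonoidHom.map_mclosure, Finset.coe_image, Set.image_image, Set.image_image]
      refine congrArg AddSubmonoid.closure (Set.image_congr' fun k => ?_)
      exact coroot_indexEquiv e k
    rw [h, coroot_indexEquiv]
    exact (b.coroot_mem_or_neg_mem j).imp (fun h => ⟨_, h, rfl⟩) fun h => ⟨_, h, map_neg _ _⟩

end Base

variable {S : Scheme.{u}} {G G' : Over S} [GrpObj G] [GrpObj G']

/-- Group schemes over the empty scheme are isomorphic. -/
theorem nonempty_iso_of_isEmpty [IsEmpty S] (G G' : Over S) [GrpObj G] [GrpObj G'] :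
    Nonempty (Grp.mk G ≅ Grp.mk G') := by
  haveI h : ∀ K : Over S, IsEmpty K.left := fun K => Function.isEmpty K.hom.base
  have hsub : ∀ K L : Over S, Subsingleton (K ⟶ L) := fun K L =>
    ⟨fun f g => Over.OverMorphism.ext ((isInitialOfIsEmpty (X := K.left)).hom_ext _ _)⟩
  let a : ∀ K L : Over S, K ⟶ L := fun K L =>
    Over.homMk ((isInitialOfIsEmpty (X := K.left)).to _) ((isInitialOfIsEmpty (X := K.left)).hom_ext _ _)
  let e : G ≅ G' := ⟨a G G', a G' G, (hsub _ _).elim _ _, (hsub _ _).elim _ _⟩
  haveI : IsMonHom e.hom := ⟨(hsub _ _).elim _ _, (hsub _ _).elim _ _⟩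
  exact ⟨Grp.mkIso' e⟩

/-- Split groups with isomorphic root data are isomorphic. -/
theorem nonempty_iso_of_equiv (D : Red.SplitRed G) (D' : Red.SplitRed G') (h : RootPairing.Equiv D'.P D.P) :
    Nonempty (Grp.mk G ≅ Grp.mk G') := by
  rcases isEmpty_or_nonempty S with hS | hS
  · exact nonempty_iso_of_isEmpty G G'
  obtain ⟨b'⟩ := RedRk29.exists_base' D'
  let P : Red.Pinning G := { D with base := baseMap h b' }
  let P' : Red.Pinning G' := { D' with base := b' }
  obtain ⟨f, ⟨hf, -, -⟩, -⟩ := Twist.existsUnique_iso_equiv (D := P) (D' := P') h fun a => by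
    show a ∈ b'.support ↔ h.indexEquiv a ∈ b'.support.image h.indexEquiv
    rw [Finset.mem_image]
    exact ⟨fun ha => ⟨a, ha, rfl⟩, fun ⟨c, hc, e⟩ => h.indexEquiv.injective e ▸ hc⟩
  haveI := hf
  exact ⟨Grp.mkIso' f⟩

/-- The composite of two equivalences of root pairings. -/
theorem nonempty_iso_of_isSplitOfType {I1 M1 N1 : Type} [AddCommGroup M1] [AddCommGroup N1]
    {Q : RootPairing I1 ℤ M1 N1} (D : Red.SplitRed G) (D' : Red.SplitRed G') (e : RootPairing.Equiv D.P Q)
    (e' : RootPairing.Equiv D'.P Q) : Nonempty (Grp.mk G ≅ Grp.mk G') :=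
  nonempty_iso_of_equiv D D' ((RootPairing.Equiv.symm D.P Q e).comp e')

end Groth.Agent.Twin38
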