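import Groth.Agent.Twin38.Good
import Groth.Agent.CellExt29.Extend
import Groth.Agent.BigCell29.CellOne
import Groth.Agent.RedRk29.DualPinning

/-! The homomorphism of pinned groups attached to a morphism of root data. -/

set_option autoImplicit false
set_option linter.style.haveILetI false

universe u

open CategoryTheory CategoryTheory.Limits AlgebraicGeometry MonoidalCategory CartesianMonoidalCategory
open scoped MonObj Classical

noncomputable section

namespace Groth.Agent.Twin38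

open GrpSchLib Rank2Red38

variable {S : Scheme.{u}} {G G' : Over S} [GrpObj G] [GrpObj G'] {D : Red.Pinning G} {D' : Red.Pinning G'}

namespace Twist

variable (T : Twist D D')

/-- The elementary pairs. -/
def El (X : Over S) : Set (H2 G G' X) :=
  Set.range (T.tor X) ∪
    ⋃ a ∈ D.base.support, Set.range (T.fu a X) ∪ Set.range (T.fu (neg' D.toSplitRed a) X)

/-- The subgroup generated by the elementary pairs. -/
def Graph (X : Over S) : Subgroup (H2 G G' X) := Subgroup.closure (T.El X)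

theorem fu_mem_el {a c : D.idx} (ha : a ∈ D.base.support) (hc : c = a ∨ c = neg' D.toSplitRed a) {X : Over S}
    (x : Γ(X.left, ⊤)) : T.fu c X x ∈ T.El X := by
  refine Or.inr (Set.mem_biUnion ha ?_)
  rcases hc with rfl | rfl
  · exact Or.inl ⟨x, rfl⟩
  · exact Or.inr ⟨x, rfl⟩

theorem pull_fu {X X' : Over S} (g : X' ⟶ X) (c : D.idx) (x : Γ(X.left, ⊤)) :
    pull g (T.fu c X x) = T.fu c X' (g.left.appTop x) := by
  simp only [pull, fu, MonoidHom.mk'_apply, comp_U, map_th]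

theorem pull_el {X X' : Over S} (g : X' ⟶ X) {p : H2 G G' X} (hp : p ∈ T.El X) : pull g p ∈ T.El X' := by
  rcases hp with ⟨t, rfl⟩ | hp
  · exact Or.inl ⟨g ≫ t, (T.pull_tor g t).symm⟩
  · obtain ⟨a, ha, ⟨x, rfl⟩ | ⟨x, rfl⟩⟩ := Set.mem_iUnion₂.mp hp <;> rw [T.pull_fu]
    exacts [T.fu_mem_el ha (.inl rfl) _, T.fu_mem_el ha (.inr rfl) _]

variable (hd : ∀ c ∈ D.base.support, IsDual D.toSplitRed c) (hd' : ∀ c ∈ D'.base.support, IsDual D'.toSplitRed c)
variable [Nonempty S]
include hd hd'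

theorem inv_el {X : Over S} {p : H2 G G' X} (hp : p ∈ T.El X) : p⁻¹ ∈ T.El X := by
  have h : ∀ {a c : D.idx}, a ∈ D.base.support → (c = a ∨ c = neg' D.toSplitRed a) →
      ∀ x : Γ(X.left, ⊤), (T.fu c X x)⁻¹ ∈ T.El X := fun {a c} ha hc x => by
    obtain ⟨e, -, he⟩ := T.isFam_fu hd hd' ha hc
    rw [he, ← T.rt_neg hd hd', ← mul_neg, ← he]
    exact T.fu_mem_el ha hc _
  rcases hp with ⟨t, rfl⟩ | hp
  · exact Or.inl ⟨t⁻¹, map_inv _ _⟩
  · obtain ⟨a, ha, ⟨x, rfl⟩ | ⟨x, rfl⟩⟩ := Set.mem_iUnion₂.mp hp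
    exacts [h ha (.inl rfl) x, h ha (.inr rfl) x]

theorem el_good {X : Over S} {e g : H2 G G' X} (he : e ∈ T.El X) (hg : T.InK g)
    (hw : ∃ w, w ≫ cell D = (e * g).1) : T.InK (e * g) := by
  rcases he with ⟨t, rfl⟩ | he
  · exact T.tor_mul_inK hd hd' t hg
  · obtain ⟨a, ha, ⟨x, rfl⟩ | ⟨x, rfl⟩⟩ := Set.mem_iUnion₂.mp he
    · exact T.good_pos hd hd' ha x hg hw
    · exact T.neg_mul_inK (T.fu_mem_neg hd hd' ha X x) hg

/-- A product of elementary pairs which is trivial on the first group is trivial. -/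
theorem graph_eq_one {X : Over S} {h : H2 G G' X} (hh : h ∈ T.Graph X) (h1 : h.1 = 1) : h = 1 := by
  have hh' : h ∈ (Subgroup.closure (T.El X)).toSubmonoid := hh
  rw [Subgroup.closure_toSubmonoid] at hh'
  obtain ⟨l, hl, rfl⟩ := Submonoid.exists_list_of_mem_closure hh'
  have hl' : ∀ e ∈ l, e ∈ T.El X := fun e he => by
    rcases hl e he with h | h
    · exact h
    · simpa using T.inv_el hd hd' h
  obtain ⟨X', p, σ, ρ, hp, hρ⟩ := CellExt29.exists_translate (cell D) D.reductive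
    (BigCell29.exists_one_cellMap D.toSplitRed _ _) (X := X) (k := l.length + 1)
    fun i => (l.drop i.1).prod.1
  obtain ⟨s, hs, es⟩ := T.exists_pair hd hd' σ
  have key : ∀ (m i : ℕ), i + m = l.length → T.InK (pull p (l.drop i).prod * s) := fun m => by
    induction m with
    | zero =>
      intro i hi
      rw [List.drop_of_length_le (by omega), List.prod_nil, map_one, one_mul]
      exact hs
    | succ m ih =>
      intro i hi
      have hdrop : l.drop i = l[i]'(by omega) :: l.drop (i + 1) := List.drop_eq_getElem_cons (by omega)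
      rw [hdrop, List.prod_cons, map_mul, mul_assoc]
      refine T.el_good hd hd' (T.pull_el p (hl' _ (List.getElem_mem _))) (ih (i + 1) (by omega))
        ⟨ρ ⟨i, by omega⟩, ?_⟩
      rw [hρ, ← mul_assoc, ← map_mul, ← List.prod_cons, ← hdrop, Prod.fst_mul, es]
      rfl
  have h0 := key l.length 0 (by omega)
  rw [List.drop_zero] at h0
  have e : pull p l.prod * s = s := T.inK_ext hd hd' h0 hs (by
    rw [Prod.fst_mul]
    show (p ≫ l.prod.1) * s.1 = s.1
    rw [h1, MonObj.comp_one, one_mul])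
  rw [mul_eq_right] at e
  haveI := hp.epi
  refine Prod.ext h1 ((cancel_epi p).mp ?_)
  exact (congrArg Prod.snd e).trans (MonObj.comp_one p).symm

theorem rt_mem_graph (X : Over S) (c : D.idx) (x : Γ(X.left, ⊤)) : T.rt X c x ∈ T.Graph X := by
  suffices ∀ {c : D.idx} {P : Fam2 G G'}, T.PRep c P → ∀ x, T.pts P X c x ∈ T.Graph X from this (T.prep_rep c) x
  intro c P hP
  induction hP with
  | @base a c ha hc => exact fun x => Subgroup.subset_closure (T.fu_mem_el ha hc x)
  | @step a c P ha hc hp h ih =>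
    intro x
    have h1 : ∀ {b : D.idx}, (b = a ∨ b = neg' D.toSplitRed a) → T.fu b X 1 ∈ T.Graph X := fun hb =>
      Subgroup.subset_closure (T.fu_mem_el ha hb 1)
    have hwl : T.wl X a ∈ T.Graph X := by
      have := mul_mem (mul_mem (h1 (.inl rfl)) (inv_mem (h1 (.inr rfl)))) (h1 (.inl rfl))
      convert this using 1
      refine Prod.ext rfl ?_
      show W D'.toSplitRed X (T.d a) = U D'.toSplitRed X (T.d a) (T.th X a 1) *
        (U D'.toSplitRed X (T.d (neg' D.toSplitRed a)) (T.th X (neg' D.toSplitRed a) 1))⁻¹ *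
          U D'.toSplitRed X (T.d a) (T.th X a 1)
      rw [map_one, map_one, T.d_neg]
      rfl
    have := mul_mem (mul_mem hwl (ih x)) (inv_mem hwl)
    convert this using 1
    refine Prod.ext rfl ?_
    show W D'.toSplitRed X (T.d a) * P.2 X (T.th X c x) * (W D'.toSplitRed X (T.d a))⁻¹ =
      W D'.toSplitRed X (T.d a) * P.2 X (T.th X (D.P.reflectionPerm a c) x) * (W D'.toSplitRed X (T.d a))⁻¹
    rw [T.th_refl]

theorem inK_mem_graph {X : Over S} {g : H2 G G' X} (hg : T.InK g) : g ∈ T.Graph X := by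
  have hS : ∀ A, T.Sub X A ≤ T.Graph X := fun A => (Subgroup.closure_le _).mpr fun p hp => by
    obtain ⟨c, -, x, rfl⟩ := Set.mem_iUnion₂.mp hp
    exact T.rt_mem_graph hd hd' X c x
  obtain ⟨n, hn, t, m, hm, rfl⟩ := hg
  exact mul_mem (mul_mem (hS _ hn) (Subgroup.subset_closure (Or.inl ⟨t, rfl⟩))) (hS _ hm)

/-- The extension of the morphism on the cell. -/
theorem exists_hom : ∃ f : G ⟶ G', IsMonHom f ∧ ∀ (X : Over S) (g : H2 G G' X), T.InK g → g.1 ≫ f = g.2 := by
  obtain ⟨g0, hg0, e0⟩ := T.exists_pair hd hd' (𝟙 (cellDom D))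
  rw [Category.id_comp] at e0
  have hval : ∀ (X : Over S) (w : X ⟶ cellDom D) (g : H2 G G' X), T.InK g → g.1 = w ≫ cell D → g.2 = w ≫ g0.2 := by
    intro X w g hg hw
    exact congrArg Prod.snd (T.inK_ext hd hd' hg (T.pull_inK hd hd' w hg0)
      (hw.trans (congrArg (w ≫ ·) e0.symm)))
  obtain ⟨f, hf, hcf⟩ := CellExt29.exists_extend (cell D) D.reductive
    (BigCell29.exists_one_cellMap D.toSplitRed _ _) g0.2 fun X x y z h => by
      obtain ⟨kx, hkx, ex⟩ := T.exists_pair hd hd' x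
      obtain ⟨ky, hky, ey⟩ := T.exists_pair hd hd' y
      obtain ⟨kz, hkz, ez⟩ := T.exists_pair hd hd' z
      have := T.graph_eq_one hd hd' (h := kx * ky * kz⁻¹)
        (mul_mem (mul_mem (T.inK_mem_graph hd hd' hkx) (T.inK_mem_graph hd hd' hky))
          (inv_mem (T.inK_mem_graph hd hd' hkz)))
        (by rw [Prod.fst_mul, Prod.fst_mul, Prod.fst_inv, ex, ey, ez, h, mul_inv_cancel])
      rw [mul_inv_eq_one] at this
      rw [← hval X x kx hkx ex, ← hval X y ky hky ey, ← hval X z kz hkz ez, ← this]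
      rfl
  refine ⟨f, hf, fun X g hg => ?_⟩
  obtain ⟨w, hw⟩ := T.exists_point hd hd' hg
  rw [← hw, Category.assoc, hcf, ← hval X w g hg hw.symm]

/-- The homomorphism on the torus and the simple root groups. -/
theorem exists_hom_simple : ∃ f : G ⟶ G', IsMonHom f ∧ D.i ≫ f = T.hT ≫ D'.i ∧
    ∀ a ∈ D.base.support, ∀ (X : Over S) (x : Γ(X.left, ⊤)),
      U D.toSplitRed X a x ≫ f = U D'.toSplitRed X (T.d a) (T.th X a x) ∧
      U D.toSplitRed X (neg' D.toSplitRed a) x ≫ f =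
        U D'.toSplitRed X (neg' D'.toSplitRed (T.d a)) (T.th X a x) := by
  obtain ⟨f, hf, h⟩ := T.exists_hom hd hd'
  refine ⟨f, hf, ?_, fun a ha X x => ⟨h X _ (T.sub_inK (.inl rfl) (T.fu_mem_pos hd hd' ha X x)), ?_⟩⟩
  · have h1 := h D.T _ (T.tor_inK (𝟙 D.T))
    change ((𝟙 D.T) ≫ D.i) ≫ f = (𝟙 D.T ≫ T.hT) ≫ D'.i at h1
    simpa using h1
  · have h1 := h X _ (T.sub_inK (.inr rfl) (T.fu_mem_neg hd hd' ha X x))
    simp only [fu, T.d_neg, T.th_refl] at h1
    exact h1

/-- The homomorphism is unique. -/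
theorem existsUnique_hom : ∃! f : G ⟶ G', IsMonHom f ∧ D.i ≫ f = T.hT ≫ D'.i ∧
    ∀ a ∈ D.base.support, ∀ (X : Over S) (x : Γ(X.left, ⊤)),
      U D.toSplitRed X a x ≫ f = U D'.toSplitRed X (T.d a) (T.th X a x) ∧
      U D.toSplitRed X (neg' D.toSplitRed a) x ≫ f =
        U D'.toSplitRed X (neg' D'.toSplitRed (T.d a)) (T.th X a x) := by
  obtain ⟨f, hf⟩ := T.exists_hom_simple hd hd'
  refine ⟨f, hf, fun g ⟨hg, hgT, hgU⟩ => ?_⟩
  haveI := hg; haveI := hf.1
  refine RedRk29.hom_ext_simple D g f (hgT.trans hf.2.1.symm) fun a ha => ?_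
  have h1 := hgU a ha (Red.Ga S) (Red.gaFn (𝟙 _))
  have h2 := hf.2.2 a ha (Red.Ga S) (Red.gaFn (𝟙 _))
  simp only [← pt_comp_eq D.toSplitRed, Category.id_comp] at h1 h2
  exact ⟨h1.1.trans h2.1.symm, h1.2.trans h2.2.symm⟩

end Twist

end Groth.Agent.Twin38
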