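import Groth.Agent.Twin38.Collect
import Groth.Agent.BigCell29.Global
import Groth.Agent.RedRk29.BruhatCover

/-! The pairs of points over the big cell. -/

set_option autoImplicit false
set_option linter.style.haveILetI false

universe u

open CategoryTheory CategoryTheory.Limits AlgebraicGeometry MonoidalCategory CartesianMonoidalCategory
open scoped MonObj Classical

noncomputable section

namespace Groth.Agent.Twin38

open GrpSchLib Rank2Red38

variable {S : Scheme.{u}} {G G' : Over S} [GrpObj G] [GrpObj G'] {D : Red.Pinning G} {D' : Red.Pinning G'}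

theorem posRoots_eq (D : Red.Pinning G) : RedSub.posRoots D.P D.base = SgnSet D 1 := by
  have hP := (RootData.Simple.of_base D.base).posOf_isPosSys
  have h1 : ∀ c, 0 < D.base.height c → c ∈ RedSub.posRoots D.P D.base := fun c hc => by
    obtain ⟨f, -, hf, hs, -⟩ := coords c
    show D.P.root c ∈ AddSubmonoid.closure _
    rw [hf]
    refine sum_mem fun a ha => ?_
    rw [← Int.toNat_of_nonneg (hs hc a), natCast_zsmul]
    exact nsmul_mem (AddSubmonoid.subset_closure (Set.mem_image_of_mem _ ha)) _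
  ext c
  simp only [SgnSet, Set.mem_setOf_eq, one_mul]
  refine ⟨fun hc => ?_, h1 c⟩
  rcases (D.base.height_ne_zero c).lt_or_gt with h | h
  · exact absurd (h1 (neg' D.toSplitRed c) (by rw [height_neg']; omega)) (hP.disjoint hc)
  · exact h

theorem negRoots_eq (D : Red.Pinning G) : RedSub.negRoots D.P D.base = SgnSet D (-1) := by
  ext c
  rw [RedRk29.neg_iff_not_pos, posRoots_eq]
  simp only [SgnSet, Set.mem_setOf_eq, one_mul]
  have := D.base.height_ne_zero c
  omega

/-- A point of a power of the additive group with given coordinates along a list. -/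
def powOf {I0 : Type} (X : Over S) : (l : List I0) → (I0 → Γ(X.left, ⊤)) → (X ⟶ RedSub.pow (Red.Ga S) l.length)
  | [], _ => toUnit X
  | c :: l, y => lift (GaPts.ptOfFn (y c)) (powOf X l y)

theorem powOf_congr {I0 : Type} (X : Over S) : ∀ (l : List I0) {y y' : I0 → Γ(X.left, ⊤)},
    (∀ c ∈ l, y c = y' c) → powOf X l y = powOf X l y'
  | [], _, _, _ => rfl
  | c :: l, y, y', h => by
    rw [powOf, powOf, h c List.mem_cons_self, powOf_congr X l fun d hd => h d (List.mem_cons_of_mem _ hd)]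

theorem powOf_surj {I0 : Type} (X : Over S) : ∀ (l : List I0), l.Nodup →
    ∀ p : X ⟶ RedSub.pow (Red.Ga S) l.length, ∃ y, powOf X l y = p
  | [], _, p => ⟨0, toUnit_unique _ _⟩
  | c :: l, h, p => by
    obtain ⟨y, hy⟩ := powOf_surj X l (List.nodup_cons.mp h).2 (p ≫ snd _ _)
    refine ⟨Function.update y c (Red.gaFn (p ≫ fst _ _)), ?_⟩
    rw [powOf, Function.update_self, ← RankOne.ga_eq_ptOfFn, powOf_congr X l
      (fun d hd => Function.update_of_ne (fun e : d = c => (List.nodup_cons.mp h).1 (e ▸ hd)) _ y), hy]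
    exact hom_ext _ _ (lift_fst _ _) (lift_snd _ _)

theorem powOf_inj {I0 : Type} (X : Over S) : ∀ (l : List I0) {y y' : I0 → Γ(X.left, ⊤)},
    powOf X l y = powOf X l y' → ∀ c ∈ l, y c = y' c
  | [], _, _, _, c, hc => absurd hc List.not_mem_nil
  | a :: l, y, y', h, c, hc => by
    have h1 := congrArg (· ≫ fst _ _) h
    have h2 := congrArg (· ≫ snd _ _) h
    simp only [powOf, lift_fst, lift_snd] at h1 h2
    rcases List.mem_cons.mp hc with rfl | hc
    · simpa [GaPts.gaFn_ptOfFn] using congrArg Red.gaFn h1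
    · exact powOf_inj X l h2 c hc

theorem powOf_prodMap (D : Red.SplitRed G) (X : Over S) (y : D.idx → Γ(X.left, ⊤)) : ∀ l : List D.idx,
    powOf X l y ≫ RedSub.prodMap (Red.Ga S) l.length (fun j => D.u (l.get j)) = rootProd D X l y
  | [] => by
    show toUnit X ≫ (1 : RedSub.pow (Red.Ga S) 0 ⟶ G) = _
    exact (MonObj.comp_one _).trans rfl
  | c :: l => by
    have ih := powOf_prodMap D X y l
    show lift _ _ ≫ ((fst _ _ ≫ D.u c) * (snd _ _ ≫ RedSub.prodMap (Red.Ga S) l.length fun j => D.u (l.get j))) = _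
    rw [MonObj.comp_mul, lift_fst_assoc, lift_snd_assoc, ih]
    simp only [rootProd, List.map_cons, List.prod_cons]
    rfl

theorem enum_list {I0 : Type} {A : Set I0} {l : List I0} (hl : l.Nodup) (hA : ∀ c, c ∈ l ↔ c ∈ A) :
    RedSub.Enumerates A l.get :=
  ⟨List.nodup_iff_injective_get.mp hl, by ext c; exact List.mem_iff_get.symm.trans (hA c)⟩

/-- The chosen order of the roots of a sign. -/
def rootList (D : Red.Pinning G) (σ : ℤ) : List D.idx :=
  (exists_sorted (SgnSet D σ) subset_rfl fun c hc e he d hd => (comb_sgn hc he hd).1).choose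

theorem rootList_sorted (D : Red.Pinning G) (σ : ℤ) : Sorted D σ (rootList D σ) :=
  (exists_sorted (SgnSet D σ) subset_rfl fun c hc e he d hd => (comb_sgn hc he hd).1).choose_spec.1

theorem mem_rootList {σ : ℤ} {c : D.idx} : c ∈ rootList D σ ↔ c ∈ SgnSet D σ :=
  (exists_sorted (SgnSet D σ) subset_rfl fun c hc e he d hd => (comb_sgn hc he hd).1).choose_spec.2 c

/-- The domain of the big cell. -/
abbrev cellDom (D : Red.Pinning G) : Over S :=
  RedSub.pow (Red.Ga S) (rootList D (-1)).length ⊗ (D.T ⊗ RedSub.pow (Red.Ga S) (rootList D 1).length)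

/-- The big cell. -/
def cell (D : Red.Pinning G) : cellDom D ⟶ G :=
  RedSub.cellMap D.toSplitRed (rootList D (-1)).get (rootList D 1).get

instance (D : Red.Pinning G) : IsOpenImmersion (cell D).left :=
  BigCell29.isOpenImmersion_cellMap D.toSplitRed D.base
    (negRoots_eq D ▸ enum_list (rootList_sorted D (-1)).nodup fun _ => mem_rootList)
    (posRoots_eq D ▸ enum_list (rootList_sorted D 1).nodup fun _ => mem_rootList)

theorem cell_cancel {X : Over S} {v w : X ⟶ cellDom D} (h : v ≫ cell D = w ≫ cell D) : v = w := by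
  refine Over.OverMorphism.ext ((cancel_mono (cell D).left).mp ?_)
  simpa using congrArg CommaMorphism.left h

theorem comp_cellPt (X : Over S) (y x : D.idx → Γ(X.left, ⊤)) (t : X ⟶ D.T) :
    lift (powOf X (rootList D (-1)) y) (lift t (powOf X (rootList D 1) x)) ≫ cell D =
      rootProd D.toSplitRed X (rootList D (-1)) y * (I D.toSplitRed X t * rootProd D.toSplitRed X (rootList D 1) x) := by
  simp only [cell, RedSub.cellMap, MonObj.comp_mul, lift_fst_assoc, lift_snd_assoc, powOf_prodMap]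
  rfl

namespace Twist

variable (T : Twist D D')

/-- The pairs of points over the big cell. -/
def InK {X : Over S} (g : H2 G G' X) : Prop :=
  ∃ n ∈ T.Sub X (SgnSet D (-1)), ∃ t, ∃ m ∈ T.Sub X (SgnSet D 1), g = n * T.tor X t * m

theorem pull_tor {X X' : Over S} (g : X' ⟶ X) (t : X ⟶ D.T) : pull g (T.tor X t) = T.tor X' (g ≫ t) := by
  refine Prod.ext ((comp_I g t)) ?_
  show g ≫ I D'.toSplitRed X (t ≫ T.hT) = I D'.toSplitRed X' ((g ≫ t) ≫ T.hT)
  rw [comp_I, Category.assoc]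

theorem tor_inK {X : Over S} (t : X ⟶ D.T) : T.InK (T.tor X t) :=
  ⟨1, one_mem _, t, 1, one_mem _, by rw [one_mul, mul_one]⟩

theorem one_inK {X : Over S} : T.InK (1 : H2 G G' X) := by
  simpa using T.tor_inK (1 : X ⟶ D.T)

theorem neg_mul_inK {X : Over S} {n g : H2 G G' X} (hn : n ∈ T.Sub X (SgnSet D (-1))) (hg : T.InK g) :
    T.InK (n * g) := by
  obtain ⟨n', hn', t, m, hm, rfl⟩ := hg
  exact ⟨n * n', mul_mem hn hn', t, m, hm, by simp only [mul_assoc]⟩

theorem mul_pos_inK {X : Over S} {m g : H2 G G' X} (hm : m ∈ T.Sub X (SgnSet D 1)) (hg : T.InK g) :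
    T.InK (g * m) := by
  obtain ⟨n, hn, t, m', hm', rfl⟩ := hg
  exact ⟨n, hn, t, m' * m, mul_mem hm' hm, by simp only [mul_assoc]⟩

theorem sub_inK {X : Over S} {σ : ℤ} (hσ : σ = 1 ∨ σ = -1) {g : H2 G G' X} (hg : g ∈ T.Sub X (SgnSet D σ)) :
    T.InK g := by
  rcases hσ with rfl | rfl
  · simpa using T.mul_pos_inK hg T.one_inK
  · simpa using T.neg_mul_inK hg T.one_inK

variable (hd : ∀ c ∈ D.base.support, IsDual D.toSplitRed c) (hd' : ∀ c ∈ D'.base.support, IsDual D'.toSplitRed c)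
variable [Nonempty S]
include hd hd'

theorem tor_conj_sub {X : Over S} (t : X ⟶ D.T) {A : Set D.idx} {g : H2 G G' X} (hg : g ∈ T.Sub X A) :
    T.tor X t * g * (T.tor X t)⁻¹ ∈ T.Sub X A := by
  have key : T.Sub X A ≤ (T.Sub X A).comap (MulAut.conj (T.tor X t)).toMonoidHom := by
    refine (Subgroup.closure_le _).mpr ?_
    intro p hp
    obtain ⟨c, hc, z, rfl⟩ := Set.mem_iUnion₂.mp hp
    show T.tor X t * T.rt X c z * (T.tor X t)⁻¹ ∈ T.Sub X A
    rw [T.tor_conj_rt hd hd']
    exact T.rt_mem_sub hc _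
  exact key hg

theorem tor_mul_inK {X : Over S} (t : X ⟶ D.T) {g : H2 G G' X} (hg : T.InK g) : T.InK (T.tor X t * g) := by
  obtain ⟨n, hn, s, m, hm, rfl⟩ := hg
  refine ⟨_, T.tor_conj_sub hd hd' t hn, t * s, m, hm, ?_⟩
  rw [map_mul]; group

theorem mul_tor_inK {X : Over S} (t : X ⟶ D.T) {g : H2 G G' X} (hg : T.InK g) : T.InK (g * T.tor X t) := by
  obtain ⟨n, hn, s, m, hm, rfl⟩ := hg
  refine ⟨n, hn, s * t, _, T.tor_conj_sub hd hd' t⁻¹ hm, ?_⟩
  rw [map_mul, map_inv]; group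

theorem pull_inK {X X' : Over S} (g : X' ⟶ X) {p : H2 G G' X} (hp : T.InK p) : T.InK (pull g p) := by
  obtain ⟨n, hn, t, m, hm, rfl⟩ := hp
  exact ⟨pull g n, T.pull_sub hd hd' g _ ⟨n, hn, rfl⟩, g ≫ t, pull g m, T.pull_sub hd hd' g _ ⟨m, hm, rfl⟩,
    by rw [map_mul, map_mul, T.pull_tor]⟩

/-- The scalar of a root pair on the first group. -/
theorem exists_scalar_fst : ∃ k : D.idx → Γ(S, ⊤)ˣ, ∀ (X : Over S) (c : D.idx) (x : Γ(X.left, ⊤)),
    (T.rt X c x).1 = U D.toSplitRed X c (glob X (k c : Γ(S, ⊤)) * x) := by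
  choose k hk k' _ e using T.rt_eq hd hd'
  exact ⟨fun c => (hk c).unit, fun X c x => by rw [e]; rfl⟩

/-- The scalars. -/
def kf : D.idx → Γ(S, ⊤)ˣ := (T.exists_scalar_fst hd hd').choose

theorem pprod_fst (X : Over S) (l : List D.idx) (y : D.idx → Γ(X.left, ⊤)) :
    (T.pprod X l y).1 = rootProd D.toSplitRed X l fun c => glob X (T.kf hd hd' c : Γ(S, ⊤)) * y c := by
  induction l with
  | nil => rfl
  | cons c l ih =>
    simp only [pprod, rootProd, List.map_cons, List.prod_cons, Prod.fst_mul] at ih ⊢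
    rw [ih]
    congr 1
    exact (T.exists_scalar_fst hd hd').choose_spec X c (y c)

/-- Every pair over the cell comes from a point of the cell. -/
theorem exists_point {X : Over S} {g : H2 G G' X} (hg : T.InK g) : ∃ w, w ≫ cell D = g.1 := by
  obtain ⟨n, hn, t, m, hm, rfl⟩ := hg
  have eA : ∀ σ, T.Sub X (SgnSet D σ) ≤ T.Sub X {c | c ∈ rootList D σ} := fun σ =>
    T.sub_mono fun c hc => mem_rootList.mpr hc
  obtain ⟨y, rfl⟩ := T.exists_pprod hd hd' _ (rootList_sorted D (-1)) (eA _ hn)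
  obtain ⟨x, rfl⟩ := T.exists_pprod hd hd' _ (rootList_sorted D 1) (eA _ hm)
  refine ⟨lift (powOf X _ fun c => glob X (T.kf hd hd' c : Γ(S, ⊤)) * y c)
    (lift t (powOf X _ fun c => glob X (T.kf hd hd' c : Γ(S, ⊤)) * x c)), ?_⟩
  rw [comp_cellPt, Prod.fst_mul, Prod.fst_mul, T.pprod_fst hd hd', T.pprod_fst hd hd', mul_assoc]
  rfl

/-- The data of a pair over the cell are determined by its first point. -/
theorem inK_unique {X : Over S} {n n' m m' : H2 G G' X} {t t' : X ⟶ D.T}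
    (hn : n ∈ T.Sub X (SgnSet D (-1))) (hn' : n' ∈ T.Sub X (SgnSet D (-1))) (hm : m ∈ T.Sub X (SgnSet D 1))
    (hm' : m' ∈ T.Sub X (SgnSet D 1)) (h : (n * T.tor X t * m).1 = (n' * T.tor X t' * m').1) :
    n = n' ∧ t = t' ∧ m = m' := by
  have eA : ∀ σ, T.Sub X (SgnSet D σ) ≤ T.Sub X {c | c ∈ rootList D σ} := fun σ =>
    T.sub_mono fun c hc => mem_rootList.mpr hc
  obtain ⟨y, rfl⟩ := T.exists_pprod hd hd' _ (rootList_sorted D (-1)) (eA _ hn)
  obtain ⟨y', rfl⟩ := T.exists_pprod hd hd' _ (rootList_sorted D (-1)) (eA _ hn')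
  obtain ⟨x, rfl⟩ := T.exists_pprod hd hd' _ (rootList_sorted D 1) (eA _ hm)
  obtain ⟨x', rfl⟩ := T.exists_pprod hd hd' _ (rootList_sorted D 1) (eA _ hm')
  simp only [Prod.fst_mul, T.pprod_fst hd hd', mul_assoc] at h
  change _ * (I D.toSplitRed X t * _) = _ * (I D.toSplitRed X t' * _) at h
  rw [← comp_cellPt, ← comp_cellPt] at h
  have e := cell_cancel h
  have e1 := congrArg (· ≫ fst _ _) e
  have e2 := congrArg (· ≫ snd _ _ ≫ fst _ _) e
  have e3 := congrArg (· ≫ snd _ _ ≫ snd _ _) e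
  simp only [lift_fst, lift_snd_assoc, lift_snd] at e1 e2 e3
  have cancel : ∀ (l : List D.idx) (a b : D.idx → Γ(X.left, ⊤)),
      powOf X l (fun c => glob X (T.kf hd hd' c : Γ(S, ⊤)) * a c) =
        powOf X l (fun c => glob X (T.kf hd hd' c : Γ(S, ⊤)) * b c) → T.pprod X l a = T.pprod X l b := by
    intro l a b hab
    refine congrArg List.prod (List.map_congr_left fun c hc => congrArg (T.rt X c) ?_)
    exact (((T.kf hd hd' c).isUnit.map (glob X)).mul_right_inj).mp (powOf_inj X l hab c hc)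
  exact ⟨cancel _ _ _ e1, e2, cancel _ _ _ e3⟩

theorem inK_ext {X : Over S} {g g' : H2 G G' X} (hg : T.InK g) (hg' : T.InK g') (h : g.1 = g'.1) : g = g' := by
  obtain ⟨n, hn, t, m, hm, rfl⟩ := hg
  obtain ⟨n', hn', t', m', hm', rfl⟩ := hg'
  obtain ⟨rfl, rfl, rfl⟩ := T.inK_unique hd hd' hn hn' hm hm' h
  rfl

/-- Over every point of the cell there is a pair. -/
theorem exists_pair {X : Over S} (w : X ⟶ cellDom D) : ∃ g : H2 G G' X, T.InK g ∧ g.1 = w ≫ cell D := by
  obtain ⟨y, hy⟩ := powOf_surj X _ (rootList_sorted D (-1)).nodup (w ≫ fst _ _)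
  obtain ⟨x, hx⟩ := powOf_surj X _ (rootList_sorted D 1).nodup (w ≫ snd _ _ ≫ snd _ _)
  let dv : (D.idx → Γ(X.left, ⊤)) → D.idx → Γ(X.left, ⊤) := fun a c =>
    glob X ((T.kf hd hd' c)⁻¹ : Γ(S, ⊤)ˣ) * a c
  have hdv : ∀ a, (fun c => glob X (T.kf hd hd' c : Γ(S, ⊤)) * dv a c) = a := fun a => funext fun c => by
    simp only [dv, ← mul_assoc, ← map_mul, Units.mul_inv, map_one, one_mul]
  refine ⟨T.pprod X _ (dv y) * T.tor X (w ≫ snd _ _ ≫ fst _ _) * T.pprod X _ (dv x),
    ⟨_, T.sub_mono (fun c hc => mem_rootList.mp hc) (T.pprod_mem X _ _), _, _,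
      T.sub_mono (fun c hc => mem_rootList.mp hc) (T.pprod_mem X _ _), rfl⟩, ?_⟩
  rw [Prod.fst_mul, Prod.fst_mul, T.pprod_fst hd hd', T.pprod_fst hd hd', hdv, hdv, mul_assoc]
  show _ * (I D.toSplitRed X _ * _) = _
  rw [← comp_cellPt, hy, hx]
  congr 1
  refine hom_ext _ _ (lift_fst _ _) ?_
  rw [lift_snd]
  exact hom_ext _ _ (by rw [lift_fst, Category.assoc]) (by rw [lift_snd, Category.assoc])

end Twist

end Groth.Agent.Twin38
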