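import Groth.Agent.Twin38.Comm

/-! Products of pairs of root elements of one sign, in a fixed order. -/

set_option autoImplicit false
set_option linter.style.haveILetI false

universe u

open CategoryTheory CategoryTheory.Limits AlgebraicGeometry MonoidalCategory CartesianMonoidalCategory
open scoped MonObj Classical

noncomputable section

namespace Groth.Agent.Twin38

open GrpSchLib Rank2Red38

variable {S : Scheme.{u}} {G G' : Over S} [GrpObj G] [GrpObj G'] {D : Red.Pinning G} {D' : Red.Pinning G'}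

/-- The roots of a sign. -/
def SgnSet (D : Red.Pinning G) (σ : ℤ) : Set D.idx := {c | 0 < σ * D.base.height c}

theorem height_comb {c e d : D.idx} {i j : ℕ} (h : D.P.root d = i • D.P.root c + j • D.P.root e) :
    D.base.height d = i * D.base.height c + j * D.base.height e := by
  obtain ⟨f, -, hf, -⟩ := coords c
  obtain ⟨g, -, hg, -⟩ := coords e
  have hd : D.P.root d = ∑ a ∈ D.base.support, ((i : ℤ) * f a + (j : ℤ) * g a) • D.P.root a := by
    simp only [add_smul, mul_smul, Finset.sum_add_distrib, ← Finset.smul_sum, natCast_zsmul, h, hf, hg]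
  rw [RootPairing.Base.height_eq_sum hd, RootPairing.Base.height_eq_sum hf, RootPairing.Base.height_eq_sum hg,
    Finset.sum_add_distrib, Finset.mul_sum, Finset.mul_sum]

theorem comb_sgn {σ : ℤ} {c e d : D.idx} (hc : c ∈ SgnSet D σ) (he : e ∈ SgnSet D σ) (h : d ∈ Comb D c e) :
    d ∈ SgnSet D σ ∧ σ * D.base.height c < σ * D.base.height d ∧ σ * D.base.height e < σ * D.base.height d := by
  obtain ⟨i, j, hi, hj, hr⟩ := h
  have e' := height_comb hr
  have hc' : 0 < σ * D.base.height c := hc
  have he' : 0 < σ * D.base.height e := he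
  have h1 : (1 : ℤ) ≤ i := by exact_mod_cast hi
  have h2 : (1 : ℤ) ≤ j := by exact_mod_cast hj
  refine ⟨?_, ?_, ?_⟩ <;> simp only [SgnSet, Set.mem_setOf_eq, e'] <;> nlinarith

theorem ne_neg_of_sgn {σ : ℤ} {c e : D.idx} (hc : c ∈ SgnSet D σ) (he : e ∈ SgnSet D σ) : e ≠ neg' D.toSplitRed c := by
  rintro rfl
  have he' : 0 < σ * D.base.height (neg' D.toSplitRed c) := he
  rw [height_neg', mul_neg] at he'
  have hc' : 0 < σ * D.base.height c := hc
  omega

/-- Lists of roots of one sign, sorted by height and closed under positive combinations. -/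
structure Sorted (D : Red.Pinning G) (σ : ℤ) (l : List D.idx) : Prop where
  nodup : l.Nodup
  sgn : ∀ c ∈ l, c ∈ SgnSet D σ
  pw : l.Pairwise fun c d => σ * D.base.height d ≤ σ * D.base.height c
  closed : ∀ c ∈ l, ∀ e ∈ l, ∀ d ∈ Comb D c e, d ∈ l

theorem Sorted.init {σ : ℤ} {l : List D.idx} {e : D.idx} (h : Sorted D σ (l ++ [e])) : Sorted D σ l := by
  have hp := List.pairwise_append.mp h.pw
  refine ⟨(List.nodup_append.mp h.nodup).1, fun c hc => h.sgn c (List.mem_append_left _ hc), hp.1,
    fun c hc f hf d hd => ?_⟩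
  rcases List.mem_append.mp (h.closed c (List.mem_append_left _ hc) f (List.mem_append_left _ hf) d hd) with hl | hl
  · exact hl
  · exfalso
    rw [List.mem_singleton] at hl
    subst hl
    have h1 := (comb_sgn (h.sgn c (List.mem_append_left _ hc)) (h.sgn f (List.mem_append_left _ hf)) hd).2.1
    have h2 := hp.2.2 c hc d List.mem_cons_self
    omega

theorem exists_sorted {σ : ℤ} (A : Set D.idx) (hA : A ⊆ SgnSet D σ) (hcl : ∀ c ∈ A, ∀ e ∈ A, Comb D c e ⊆ A) :
    ∃ l, Sorted D σ l ∧ ∀ c, c ∈ l ↔ c ∈ A := by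
  let le : D.idx → D.idx → Bool := fun c d => decide (σ * D.base.height d ≤ σ * D.base.height c)
  let l := (Finset.univ.filter fun c => c ∈ A).toList.mergeSort le
  have hm : ∀ c, c ∈ l ↔ c ∈ A := fun c => by simp [l, (List.mergeSort_perm _ _).mem_iff]
  refine ⟨l, ⟨(List.mergeSort_perm _ _).nodup_iff.mpr (Finset.nodup_toList _), fun c hc => hA ((hm c).mp hc), ?_,
    fun c hc e he d hd => (hm d).mpr (hcl c ((hm c).mp hc) e ((hm e).mp he) hd)⟩, hm⟩
  refine (List.pairwise_mergeSort (le := le) (fun a b c h1 h2 => ?_) (fun a b => ?_) _).imp fun h => ?_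
  · simp only [le, decide_eq_true_eq] at h1 h2 ⊢; omega
  · simp only [le, Bool.or_eq_true, decide_eq_true_eq]; omega
  · simpa [le] using h

namespace Twist

variable (T : Twist D D')

/-- The product of the pairs of root elements along a list. -/
def pprod (X : Over S) (l : List D.idx) (x : D.idx → Γ(X.left, ⊤)) : H2 G G' X :=
  (l.map fun c => T.rt X c (x c)).prod

theorem pprod_mem (X : Over S) (l : List D.idx) (x : D.idx → Γ(X.left, ⊤)) : T.pprod X l x ∈ T.Sub X {c | c ∈ l} :=
  list_prod_mem fun p hp => by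
    obtain ⟨c, hc, rfl⟩ := List.mem_map.mp hp
    exact T.rt_mem_sub (A := {c | c ∈ l}) hc _

variable (hd : ∀ c ∈ D.base.support, IsDual D.toSplitRed c) (hd' : ∀ c ∈ D'.base.support, IsDual D'.toSplitRed c)
variable [Nonempty S]
include hd hd'

theorem pull_sub {X X' : Over S} (g : X' ⟶ X) (A : Set D.idx) : (T.Sub X A).map (pull g) ≤ T.Sub X' A := by
  rw [Sub, MonoidHom.map_closure, Subgroup.closure_le]
  rintro _ ⟨p, hp, rfl⟩
  obtain ⟨c, hc, z, rfl⟩ := Set.mem_iUnion₂.mp hp
  rw [T.pull_rt hd hd']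
  exact T.rt_mem_sub hc _

/-- A pair normalising a set of roots which does not meet the combinations with it. -/
theorem rt_conj_sub {X : Over S} {A : Set D.idx} {c : D.idx} (hop : ∀ e ∈ A, e ≠ neg' D.toSplitRed c)
    (hA : ∀ e ∈ A, Comb D c e ⊆ A) (x : Γ(X.left, ⊤)) {g : H2 G G' X} (hg : g ∈ T.Sub X A) :
    T.rt X c x * g * (T.rt X c x)⁻¹ ∈ T.Sub X A := by
  have key : T.Sub X A ≤ (T.Sub X A).comap (MulAut.conj (T.rt X c x)).toMonoidHom := by
    refine (Subgroup.closure_le _).mpr ?_
    intro p hp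
    obtain ⟨e, he, z, rfl⟩ := Set.mem_iUnion₂.mp hp
    show T.rt X c x * T.rt X e z * (T.rt X c x)⁻¹ ∈ T.Sub X A
    have h := T.sub_mono (hA e he) (T.commIn_all hd hd' (hop e he) X (-x) (-z))
    rw [T.rt_neg hd hd', T.rt_neg hd hd', inv_inv, inv_inv] at h
    have h' := mul_mem h (T.rt_mem_sub he z)
    convert h' using 1
    group
  exact key hg

/-- The subgroup of a sorted list consists of the products along it. -/
theorem exists_pprod {σ : ℤ} (l : List D.idx) (hl : Sorted D σ l) {X : Over S} {g : H2 G G' X}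
    (hg : g ∈ T.Sub X {c | c ∈ l}) : ∃ x, g = T.pprod X l x := by
  induction l using List.reverseRecOn generalizing g with
  | nil =>
    refine ⟨0, ?_⟩
    simp only [Sub, List.not_mem_nil, Set.setOf_false, Set.biUnion_empty, Subgroup.closure_empty,
      Subgroup.mem_bot] at hg
    simp [pprod, hg]
  | append_singleton l e ih =>
    have hp := List.pairwise_append.mp hl.pw
    have hnot : e ∉ l := fun h => (List.nodup_append.mp hl.nodup).2.2 e h e List.mem_cons_self rfl
    have hN : ∀ (x : Γ(X.left, ⊤)) (n : H2 G G' X), n ∈ T.Sub X {c | c ∈ l} →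
        T.rt X e x * n * (T.rt X e x)⁻¹ ∈ T.Sub X {c | c ∈ l} := fun x n => by
      refine T.rt_conj_sub hd hd' (fun f hf => ne_neg_of_sgn (hl.sgn e (by simp)) (hl.sgn f (List.mem_append_left _ hf)))
        (fun f hf d hd0 => ?_) x
      rcases List.mem_append.mp (hl.closed e (by simp) f (List.mem_append_left _ hf) d hd0) with h | h
      · exact h
      · exfalso
        rw [List.mem_singleton] at h
        subst h
        have := (comb_sgn (hl.sgn d (by simp)) (hl.sgn f (List.mem_append_left _ hf)) hd0).2.1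
        omega
    have hdec : ∃ n ∈ T.Sub X {c | c ∈ l}, ∃ x, g = n * T.rt X e x := by
      refine Subgroup.closure_induction (p := fun g _ => ∃ n ∈ T.Sub X {c | c ∈ l}, ∃ x, g = n * T.rt X e x)
        ?_ ?_ ?_ ?_ hg
      · intro p hp
        obtain ⟨c, hc, z, rfl⟩ := Set.mem_iUnion₂.mp hp
        rcases List.mem_append.mp (show c ∈ l ++ [e] from hc) with h | h
        · exact ⟨_, T.rt_mem_sub (A := {c | c ∈ l}) h z, 0, by rw [T.rt_zero hd hd', mul_one]⟩
        · rw [List.mem_singleton] at h; subst h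
          exact ⟨1, one_mem _, z, (one_mul _).symm⟩
      · exact ⟨1, one_mem _, 0, by rw [T.rt_zero hd hd', mul_one]⟩
      · rintro _ _ - - ⟨n, hn, x, rfl⟩ ⟨m, hm, y, rfl⟩
        refine ⟨_, mul_mem hn (hN x m hm), x + y, ?_⟩
        rw [T.rt_add hd hd']; group
      · rintro _ - ⟨n, hn, x, rfl⟩
        refine ⟨_, hN (-x) n⁻¹ (inv_mem hn), -x, ?_⟩
        rw [T.rt_neg hd hd']; group
    obtain ⟨n, hn, x, rfl⟩ := hdec
    obtain ⟨y, rfl⟩ := ih hl.init hn
    refine ⟨Function.update y e x, ?_⟩
    simp only [pprod, List.map_append, List.prod_append, List.map_cons, List.map_nil, List.prod_cons,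
      List.prod_nil, mul_one, Function.update_self]
    congr 2
    exact List.map_congr_left fun c hc => by
      rw [Function.update_of_ne (fun h : c = e => hnot (h ▸ hc))]

end Twist

end Groth.Agent.Twin38
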