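import Groth.Agent.Rank2Red38.Transport
import Groth.Agent.RootData.Functional
import Groth.Agent.RedRk29.Geom
import Groth.Agent.Rank2Red38.ChevClass

/-! Two roots which are not opposite are moved by the Weyl group to positive roots of a pair of simple roots. -/

set_option autoImplicit false
set_option linter.style.haveILetI false

universe u

open CategoryTheory CategoryTheory.Limits AlgebraicGeometry MonoidalCategory CartesianMonoidalCategory
open scoped MonObj Classical

noncomputable section

namespace Groth.Agent.Twin38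

open GrpSchLib Rank2Red38

variable {S : Scheme.{u}} {G : Over S} [GrpObj G] {D : Red.Pinning G}

local notation "ht" => D.base.height

variable (D) in
/-- The permutation of the roots by a word of reflections. -/
def perm (l : List D.idx) : Equiv.Perm D.idx := (l.map fun a => D.P.reflectionPerm a).prod

theorem perm_cons (a : D.idx) (l : List D.idx) (c : D.idx) :
    perm D (a :: l) c = D.P.reflectionPerm a (perm D l c) := by simp [perm]

theorem perm_append_single (l : List D.idx) (a c : D.idx) :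
    perm D (l ++ [a]) c = perm D l (D.P.reflectionPerm a c) := by simp [perm]

theorem perm_linear (l : List D.idx) :
    ∃ L : D.M →ₗ[ℤ] D.M, (∀ c, L (D.P.root c) = D.P.root ((perm D l)⁻¹ c)) ∧ Function.Injective L := by
  induction l with
  | nil => exact ⟨LinearMap.id, fun c => by simp [perm], fun x y h => h⟩
  | cons a l ih =>
    obtain ⟨L, hL, hinj⟩ := ih
    refine ⟨L ∘ₗ (D.P.reflection a).toLinearMap, fun c => ?_, fun x y h => (D.P.reflection a).injective (hinj h)⟩
    show L (D.P.reflection a (D.P.root c)) = _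
    rw [← RootPairing.root_reflectionPerm, hL]
    congr 1
    simp [perm, RootPairing.reflectionPerm_inv]

theorem perm_neg (l : List D.idx) (c : D.idx) :
    (perm D l)⁻¹ (neg' D.toSplitRed c) = neg' D.toSplitRed ((perm D l)⁻¹ c) := by
  obtain ⟨L, hL, -⟩ := perm_linear l
  refine eq_of_root_eq ?_
  show D.P.root _ = D.P.root (neg' D.toSplitRed ((perm D l)⁻¹ c))
  rw [root_neg', ← hL, ← hL, root_neg', map_neg]

/-- A linear form positive on two ordered functionals, lexicographically. -/
theorem exists_lex (f g : Module.Dual ℤ D.M) :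
    ∃ h : Module.Dual ℤ D.M, ∀ c, (0 < f (D.P.root c) → 0 < h (D.P.root c)) ∧
      (f (D.P.root c) < 0 → h (D.P.root c) < 0) ∧ (f (D.P.root c) = 0 → h (D.P.root c) = g (D.P.root c)) := by
  set B : ℤ := ∑ c, |g (D.P.root c)| + 1
  refine ⟨B • f + g, fun c => ?_⟩
  have h1 := Finset.single_le_sum (f := fun c => |g (D.P.root c)|) (fun i _ => abs_nonneg _) (Finset.mem_univ c)
  have hB : |g (D.P.root c)| < B := by simp only [B]; omega
  have h2 := neg_abs_le (g (D.P.root c))
  have h3 := le_abs_self (g (D.P.root c))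
  simp only [LinearMap.add_apply, LinearMap.smul_apply, smul_eq_mul]
  refine ⟨fun h => ?_, fun h => ?_, fun h => by rw [h, mul_zero, zero_add]⟩ <;> nlinarith

theorem coords (c : D.idx) : ∃ f : D.idx → ℤ, (∀ a, a ∉ D.base.support → f a = 0) ∧
    D.P.root c = ∑ a ∈ D.base.support, f a • D.P.root a ∧ (0 < ht c → ∀ a, 0 ≤ f a) ∧
    ∃ a ∈ D.base.support, f a ≠ 0 := by
  obtain ⟨f, hsupp, hsign, hf⟩ := D.base.exists_root_eq_sum_int c
  refine ⟨f, fun a ha => by_contra fun h => ha (hsupp h), hf, fun hc a => ?_, ?_⟩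
  · rcases hsign with h | h
    · exact h.le a
    · exfalso
      rw [RootPairing.Base.height_eq_sum hf] at hc
      have : ∑ j ∈ D.base.support, f j ≤ 0 := Finset.sum_nonpos fun j _ => h.le j
      omega
  · by_contra hh
    push Not at hh
    refine D.P.ne_zero c ?_
    rw [hf]
    exact Finset.sum_eq_zero fun a ha => by rw [hh a ha, zero_smul]

/-- A generic form becomes positive on all positive roots after a word of simple reflections. -/
theorem exists_word (lam : Module.Dual ℤ D.M) (hl : IsGeneric D.toSplitRed lam) :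
    ∃ l : List D.idx, (∀ a ∈ l, a ∈ D.base.support) ∧ ∀ c, 0 < ht c → 0 < lam (D.P.root ((perm D l)⁻¹ c)) := by
  induction hn : (Finset.univ.filter fun c => 0 < ht c ∧ lam (D.P.root c) < 0).card using
    Nat.strong_induction_on generalizing lam with
  | _ n ih =>
    by_cases hs : ∃ a ∈ D.base.support, lam (D.P.root a) < 0
    · obtain ⟨a, ha, hneg⟩ := hs
      let lam' : Module.Dual ℤ D.M := lam ∘ₗ (D.P.reflection a).toLinearMap
      have hv : ∀ c, lam' (D.P.root c) = lam (D.P.root (D.P.reflectionPerm a c)) := fun c => by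
        rw [RootPairing.root_reflectionPerm]; rfl
      have hl' : IsGeneric D.toSplitRed lam' := fun c => by rw [hv]; exact hl _
      have hlt : (Finset.univ.filter fun c => 0 < ht c ∧ lam' (D.P.root c) < 0).card < n := by
        subst hn
        refine lt_of_le_of_lt (le_of_eq ?_) (Finset.card_erase_lt_of_mem (s := Finset.univ.filter fun c =>
          0 < ht c ∧ lam (D.P.root c) < 0) (a := a) (by
            simp only [Finset.mem_filter, Finset.mem_univ, true_and]
            exact ⟨by rw [RootPairing.Base.height_one_of_mem_support ha]; exact one_pos, hneg⟩))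
        refine Finset.card_bij (fun c _ => D.P.reflectionPerm a c) (fun c hc => ?_)
          (fun c₁ _ c₂ _ e => (D.P.reflectionPerm a).injective e) (fun c hc => ?_)
        · simp only [Finset.mem_filter, Finset.mem_univ, true_and, hv] at hc
          obtain ⟨hc1, hc2⟩ := hc
          have hca : c ≠ a := by
            rintro rfl
            rw [show D.P.reflectionPerm c c = neg' D.toSplitRed c from rfl,
              show D.P.root (neg' D.toSplitRed c) = _ from root_neg' D.toSplitRed c, map_neg] at hc2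
            omega
          simp only [Finset.mem_erase, Finset.mem_filter, Finset.mem_univ, true_and]
          refine ⟨fun e => ?_, isPos_reflectionPerm D.base ha hc1 hca, hc2⟩
          have e' : c = neg' D.toSplitRed a := by
            rw [← e]
            show c = D.P.reflectionPerm (D.P.reflectionPerm a c) (D.P.reflectionPerm a c)
            have := congrArg (D.P.reflectionPerm a) e
            rw [RootPairing.reflectionPerm_self] at this
            rw [e]; exact this
          rw [e', height_neg', RootPairing.Base.height_one_of_mem_support ha] at hc1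
          omega
        · simp only [Finset.mem_erase, Finset.mem_filter, Finset.mem_univ, true_and] at hc
          obtain ⟨hca, hc1, hc2⟩ := hc
          refine ⟨D.P.reflectionPerm a c, ?_, RootPairing.reflectionPerm_self _ _ _⟩
          simp only [Finset.mem_filter, Finset.mem_univ, true_and, hv, RootPairing.reflectionPerm_self]
          exact ⟨isPos_reflectionPerm D.base ha hc1 hca, hc2⟩
      obtain ⟨l, hl1, hl2⟩ := ih _ hlt lam' hl' rfl
      refine ⟨l ++ [a], fun x hx => ?_, fun c hc => ?_⟩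
      · rcases List.mem_append.mp hx with h | h
        · exact hl1 x h
        · rw [List.mem_singleton] at h; subst h; exact ha
      · have e : (perm D (l ++ [a]))⁻¹ c = D.P.reflectionPerm a ((perm D l)⁻¹ c) := by
          simp [perm, RootPairing.reflectionPerm_inv]
        rw [e, ← hv]; exact hl2 c hc
    · push Not at hs
      refine ⟨[], by simp, fun c hc => ?_⟩
      simp only [perm, List.map_nil, List.prod_nil, inv_one, Equiv.Perm.one_apply]
      obtain ⟨f, -, hf, hpos, a, ha, hfa⟩ := coords c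
      rw [hf, map_sum]
      simp only [map_zsmul, smul_eq_mul]
      refine Finset.sum_pos' (fun j hj => mul_nonneg (hpos hc j) (hs j hj)) ⟨a, ha, ?_⟩
      exact mul_pos (lt_of_le_of_ne (hpos hc a) (Ne.symm hfa)) (lt_of_le_of_ne (hs a ha) (Ne.symm (hl a)))

theorem indep_of_ne [Nonempty S] {b c : D.idx} (hne : b ≠ c) (hop : c ≠ neg' D.toSplitRed b) :
    ∀ i j : ℤ, i • D.P.root b + j • D.P.root c = 0 → i = 0 ∧ j = 0 := by
  haveI := RedRk29.isReduced D.toSplitRed
  have h : LinearIndependent ℤ ![D.P.root b, D.P.root c] := by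
    by_contra h
    rcases RootPairing.IsReduced.eq_or_eq_neg b c h with e | e
    · exact hne (eq_of_root_eq e)
    · refine hop (eq_of_root_eq ?_)
      show D.P.root c = D.P.root (neg' D.toSplitRed b)
      rw [root_neg', e, neg_neg]
  exact LinearIndependent.pair_iff.mp h

/-- Two independent roots are moved to positive roots in the span of two simple roots. -/
theorem exists_simple_pair [Nonempty S] {b c : D.idx} (hne : b ≠ c) (hop : c ≠ neg' D.toSplitRed b) :
    ∃ (l : List D.idx) (a₁ a₂ : D.idx), (∀ a ∈ l, a ∈ D.base.support) ∧ a₁ ∈ D.base.support ∧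
      a₂ ∈ D.base.support ∧ a₁ ≠ a₂ ∧ 0 < ht (perm D l b) ∧ 0 < ht (perm D l c) ∧
      InSpan D a₁ a₂ (perm D l b) ∧ InSpan D a₁ a₂ (perm D l c) := by
  haveI := RedRk29.isReduced D.toSplitRed
  have hind := indep_of_ne hne hop
  set rb := D.P.root b with hrb
  set rc := D.P.root c with hrc
  set P₁ := D.P.pairing b c
  set P₂ := D.P.pairing c b
  set dt : ℤ := 4 - P₁ * P₂ with hdt
  have hdt0 : 0 < dt := by
    have hne4 := cartan_ne_two (D := D.toSplitRed) (a := b) (b := c) hind
    have hc := cartanPair (D := D.toSplitRed) b c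
    change CartanPair P₁ P₂ at hc
    rcases hc with h | h | h | h | h | h | h | h | h | h | h | h | h <;> obtain ⟨e1, e2⟩ := h
    all_goals first
      | (rw [hdt, e1, e2]; norm_num; done)
      | (refine (hne4.1 ⟨?_, ?_⟩).elim <;> assumption)
      | (refine (hne4.2 ⟨?_, ?_⟩).elim <;> assumption)
  let v : D.idx → D.M := fun d => dt • D.P.root d - D.P.pairing d b • ((2 : ℤ) • rb - P₁ • rc) -
    D.P.pairing d c • ((2 : ℤ) • rc - P₂ • rb)
  obtain ⟨φ, hφ⟩ := RootData.exists_hom_ne_zero ((Finset.univ.image v).erase 0) (Finset.notMem_erase _ _)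
  let μ₀ : Module.Dual ℤ D.M := dt • φ - (2 * φ rb - P₁ * φ rc) • D.P.coroot b - (2 * φ rc - P₂ * φ rb) • D.P.coroot c
  have hμv : ∀ d, μ₀ (D.P.root d) = φ (v d) := fun d => by
    simp only [μ₀, v, LinearMap.sub_apply, LinearMap.smul_apply, map_sub, map_zsmul, smul_eq_mul,
      ← pairing_eq_apply D.toSplitRed]
    ring
  have hμb : μ₀ rb = 0 ∧ μ₀ rc = 0 := by
    simp only [μ₀, hrb, hrc, LinearMap.sub_apply, LinearMap.smul_apply, smul_eq_mul, ← pairing_eq_apply D.toSplitRed,
      RootPairing.pairing_same, hdt, P₁, P₂]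
    constructor <;> ring
  let g : Module.Dual ℤ D.M := (2 - P₁) • D.P.coroot b + (2 - P₂) • D.P.coroot c
  have hg : g rb = dt ∧ g rc = dt := by
    simp only [g, hrb, hrc, LinearMap.add_apply, LinearMap.smul_apply, smul_eq_mul, ← pairing_eq_apply D.toSplitRed,
      RootPairing.pairing_same, hdt, P₁, P₂]
    constructor <;> ring
  obtain ⟨ν, hν⟩ := exists_generic D.toSplitRed
  obtain ⟨g', hg'⟩ := exists_lex g ν
  have hg'gen : ∀ d, g' (D.P.root d) ≠ 0 := fun d => by
    rcases lt_trichotomy (g (D.P.root d)) 0 with h | h | h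
    · exact ((hg' d).2.1 h).ne
    · rw [(hg' d).2.2 h]; exact hν d
    · exact ((hg' d).1 h).ne'
  obtain ⟨lam, hlam⟩ := exists_lex μ₀ g'
  have hgen : IsGeneric D.toSplitRed lam := fun d => by
    rcases lt_trichotomy (μ₀ (D.P.root d)) 0 with h | h | h
    · exact ((hlam d).2.1 h).ne
    · rw [(hlam d).2.2 h]; exact hg'gen d
    · exact ((hlam d).1 h).ne'
  obtain ⟨l, hl, hpos⟩ := exists_word lam hgen
  obtain ⟨L, hL, hLinj⟩ := perm_linear l
  have hlb : 0 < lam rb ∧ 0 < lam rc := by
    rw [(hlam b).2.2 hμb.1, (hlam c).2.2 hμb.2]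
    exact ⟨(hg' b).1 (hg.1 ▸ hdt0), (hg' c).1 (hg.2 ▸ hdt0)⟩
  have hp : ∀ d, 0 < lam (D.P.root d) → 0 < ht (perm D l d) := fun d hd => by
    rcases (D.base.height_ne_zero (perm D l d)).lt_or_gt with h | h
    · have := hpos (neg' D.toSplitRed (perm D l d)) (by rw [height_neg']; omega)
      rw [perm_neg, Equiv.Perm.inv_def, Equiv.symm_apply_apply,
        show D.P.root (neg' D.toSplitRed d) = _ from root_neg' D.toSplitRed d, map_neg] at this
      omega
    · exact h
  set wb := perm D l b with hwb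
  set wc := perm D l c with hwc
  have hLb : L (D.P.root wb) = rb ∧ L (D.P.root wc) = rc := by
    rw [hL, hL, hwb, hwc, Equiv.Perm.inv_def, Equiv.symm_apply_apply, Equiv.symm_apply_apply]; exact ⟨rfl, rfl⟩
  have hnn : ∀ a ∈ D.base.support, 0 ≤ μ₀ (L (D.P.root a)) := fun a ha => by
    rw [hL]
    have h1 := hpos a (by rw [RootPairing.Base.height_one_of_mem_support ha]; exact one_pos)
    by_contra h
    have := (hlam _).2.1 (not_le.mp h)
    omega
  set J := D.base.support.filter fun a => μ₀ (L (D.P.root a)) = 0 with hJ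
  have supp : ∀ d, 0 < ht d → μ₀ (L (D.P.root d)) = 0 → ∃ f : D.idx → ℤ,
      D.P.root d = ∑ a ∈ J, f a • D.P.root a := fun d hd h0 => by
    obtain ⟨f, -, hf, hfpos, -⟩ := coords d
    rw [hf, map_sum, map_sum] at h0
    simp only [map_zsmul, smul_eq_mul] at h0
    have h0' := (Finset.sum_eq_zero_iff_of_nonneg fun a ha => mul_nonneg (hfpos hd a) (hnn a ha)).mp h0
    refine ⟨f, hf.trans (Finset.sum_subset (Finset.filter_subset _ _) fun a ha hna => ?_).symm⟩
    have : μ₀ (L (D.P.root a)) ≠ 0 := fun h => hna (Finset.mem_filter.mpr ⟨ha, h⟩)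
    rw [(mul_eq_zero.mp (h0' a ha)).resolve_right this, zero_smul]
  obtain ⟨fb, hfb⟩ := supp wb (hp b hlb.1) (by rw [hLb.1]; exact hμb.1)
  obtain ⟨fc, hfc⟩ := supp wc (hp c hlb.2) (by rw [hLb.2]; exact hμb.2)
  have hspan : ∀ a ∈ J, ∃ p r : ℤ, dt • D.P.root a = p • D.P.root wb + r • D.P.root wc := fun a ha => by
    set d := (perm D l)⁻¹ a with hd
    have h0 : φ (v d) = 0 := by rw [← hμv, hd, ← hL]; exact (Finset.mem_filter.mp ha).2
    have hv0 : v d = 0 := by
      by_contra h
      exact hφ (v d) (Finset.mem_erase.mpr ⟨h, Finset.mem_image_of_mem v (Finset.mem_univ _)⟩) h0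
    refine ⟨2 * D.P.pairing d b - D.P.pairing d c * P₂, 2 * D.P.pairing d c - D.P.pairing d b * P₁, hLinj ?_⟩
    rw [map_zsmul, map_add, map_zsmul, map_zsmul, hLb.1, hLb.2, hL, ← hd]
    simp only [v] at hv0
    linear_combination (norm := module) hv0
  have hcard2 : ∀ a₁ ∈ J, ∀ a₂ ∈ J, ∀ a₃ ∈ J, a₁ ≠ a₂ → a₁ ≠ a₃ → a₂ ≠ a₃ → False := by
    intro a₁ h₁ a₂ h₂ a₃ h₃ n12 n13 n23
    obtain ⟨p₁, r₁, e₁⟩ := hspan a₁ h₁
    obtain ⟨p₂, r₂, e₂⟩ := hspan a₂ h₂
    obtain ⟨p₃, r₃, e₃⟩ := hspan a₃ h₃
    have hs : ∀ a ∈ J, a ∈ D.base.support := fun a ha => (Finset.mem_filter.mp ha).1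
    have e : (dt * (p₂ * r₁ - p₁ * r₂)) • D.P.root a₃ + ((dt * (p₁ * r₃ - p₃ * r₁)) • D.P.root a₂ +
        (dt * (p₃ * r₂ - p₂ * r₃)) • D.P.root a₁) = 0 := by
      rw [mul_comm dt, mul_comm dt, mul_comm dt, mul_smul, mul_smul, mul_smul, e₁, e₂, e₃]
      module
    set F : D.idx → ℤ := fun a => if a = a₃ then dt * (p₂ * r₁ - p₁ * r₂) else if a = a₂ then dt * (p₁ * r₃ - p₃ * r₁)
      else if a = a₁ then dt * (p₃ * r₂ - p₂ * r₃) else 0 with hF
    have li := linearIndepOn_finset_iff.mp D.base.linearIndepOn_root F (by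
      rw [← Finset.sum_subset (s₁ := ({a₃, a₂, a₁} : Finset D.idx))
        (by simp [Finset.insert_subset_iff, hs a₁ h₁, hs a₂ h₂, hs a₃ h₃]) (fun x _ hx => by
          simp only [Finset.mem_insert, Finset.mem_singleton, not_or] at hx
          simp [F, hx.1, hx.2.1, hx.2.2]),
        Finset.sum_insert (by simp [n23.symm, n13.symm]), Finset.sum_pair n12.symm]
      simpa [F, n23, n13, n12, n23.symm, n13.symm, n12.symm] using e)
    have k := li a₃ (hs a₃ h₃)
    simp only [F, if_pos rfl, mul_eq_zero] at k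
    have k0 : p₂ * r₁ - p₁ * r₂ = 0 := k.resolve_left hdt0.ne'
    have e' : (r₂ * dt) • D.P.root a₁ + (-(r₁ * dt)) • D.P.root a₂ = 0 := by
      have h : (r₂ * p₁ - r₁ * p₂) • D.P.root wb = 0 := by
        rw [show r₂ * p₁ - r₁ * p₂ = 0 by linarith, zero_smul]
      rw [mul_smul, neg_smul, mul_smul, e₁, e₂]
      linear_combination (norm := module) h
    have hr1 := indep_of_simple (hs a₁ h₁) (hs a₂ h₂) n12 _ _ e'
    have r20 : r₂ = 0 := by simpa [hdt0.ne'] using hr1.1
    have r10 : r₁ = 0 := by simpa [hdt0.ne'] using hr1.2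
    have e'' : (p₂ * dt) • D.P.root a₁ + (-(p₁ * dt)) • D.P.root a₂ = 0 := by
      rw [mul_smul, neg_smul, mul_smul, e₁, e₂, r20, r10]
      module
    have hp1 := indep_of_simple (hs a₁ h₁) (hs a₂ h₂) n12 _ _ e''
    have p10 : p₁ = 0 := by simpa [hdt0.ne'] using hp1.2
    rw [p10, r10] at e₁
    simp only [zero_smul, add_zero] at e₁
    exact D.P.ne_zero a₁ (((smul_eq_zero).mp e₁).resolve_left hdt0.ne')
  have hne' : wb ≠ wc := fun e => hne ((perm D l).injective e)
  have hop' : wc ≠ neg' D.toSplitRed wb := fun e => by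
    have h : (perm D l)⁻¹ wc = (perm D l)⁻¹ (neg' D.toSplitRed wb) := by rw [e]
    rw [perm_neg, hwb, hwc, Equiv.Perm.inv_def, Equiv.symm_apply_apply, Equiv.symm_apply_apply] at h
    exact hop h
  obtain ⟨a₁, ha₁⟩ : J.Nonempty := by
    by_contra h
    rw [Finset.not_nonempty_iff_eq_empty.mp h, Finset.sum_empty] at hfb
    exact D.P.ne_zero _ hfb
  obtain ⟨a₂, ha₂, n12⟩ : ∃ a₂ ∈ J, a₁ ≠ a₂ := by
    by_contra h
    push Not at h
    have e : J = {a₁} := Finset.eq_singleton_iff_unique_mem.mpr ⟨ha₁, fun x hx => (h x hx).symm⟩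
    rw [e, Finset.sum_singleton] at hfb hfc
    have hh : fc a₁ • D.P.root wb + (-fb a₁) • D.P.root wc = 0 := by rw [hfb, hfc]; module
    have := (indep_of_ne hne' hop' _ _ hh).2
    rw [neg_eq_zero] at this
    rw [this, zero_smul] at hfb
    exact D.P.ne_zero _ hfb
  have hJ2 : J = {a₁, a₂} := by
    refine Finset.Subset.antisymm (fun x hx => ?_) (by simp [Finset.insert_subset_iff, ha₁, ha₂])
    by_contra hh
    simp only [Finset.mem_insert, Finset.mem_singleton, not_or] at hh
    exact hcard2 a₁ ha₁ a₂ ha₂ x hx n12 (Ne.symm hh.1) (Ne.symm hh.2)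
  rw [hJ2, Finset.sum_pair n12] at hfb hfc
  exact ⟨l, a₁, a₂, hl, (Finset.mem_filter.mp ha₁).1, (Finset.mem_filter.mp ha₂).1, n12, hp b hlb.1, hp c hlb.2,
    ⟨_, _, hfb⟩, ⟨_, _, hfc⟩⟩

end Groth.Agent.Twin38
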