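import Groth.Agent.Twin38.Rank2
import Groth.Agent.Twin38.RootPair

/-! Commutators of the pairs of root elements of two roots which are not opposite. -/

set_option autoImplicit false
set_option linter.style.haveILetI false

universe u

open CategoryTheory CategoryTheory.Limits AlgebraicGeometry MonoidalCategory CartesianMonoidalCategory
open scoped MonObj Classical

noncomputable section

namespace Groth.Agent.Twin38

open GrpSchLib Rank2Red38

variable {S : Scheme.{u}} {G G' : Over S} [GrpObj G] [GrpObj G'] {D : Red.Pinning G} {D' : Red.Pinning G'}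

/-- The coordinates of a positive root in the span of two simple roots. -/
theorem span_coord {a b c : D.idx} (ha : a ∈ D.base.support) (hb : b ∈ D.base.support) (hne : a ≠ b)
    (hc : 0 < D.base.height c) (hs : InSpan D a b c) :
    c = a ∨ c = b ∨ ∃ i j : ℤ, 0 < i ∧ 0 < j ∧ D.P.root c = i • D.P.root a + j • D.P.root b ∧ IsComb D.P a b i j := by
  obtain ⟨i, j, h⟩ := hs
  have hcomb : IsComb D.P a b i j := ⟨c, h⟩
  have hij := root_lin_height ha hb h
  rcases hcomb.sign D.base ha hb hne with ⟨h1, h2⟩ | ⟨h1, h2⟩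
  · rcases h1.lt_or_eq with hi | hi
    · rcases h2.lt_or_eq with hj | hj
      · exact .inr (.inr ⟨i, j, hi, hj, h, hcomb⟩)
      · subst hj
        rcases hcomb.left_eq D.base ha with rfl | rfl
        · exact .inl (eq_of_root_eq (by simpa using h))
        · omega
    · subst hi
      rcases hcomb.right_eq D.base hb with rfl | rfl
      · exact .inr (.inl (eq_of_root_eq (by simpa using h)))
      · omega
  · omega

theorem reflectionPerm_coord {a b c : D.idx} {i j : ℤ} (h : D.P.root c = i • D.P.root a + j • D.P.root b) :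
    D.P.root (D.P.reflectionPerm a c) = (-i - j * D.P.pairing b a) • D.P.root a + j • D.P.root b ∧
      D.P.root (D.P.reflectionPerm b c) = i • D.P.root a + (-j - i * D.P.pairing a b) • D.P.root b := by
  constructor <;>
  · rw [root_reflect, root_lin_pairing h, RootPairing.pairing_same, h]
    module

namespace Twist

variable (T : Twist D D')
variable (hd : ∀ c ∈ D.base.support, IsDual D.toSplitRed c) (hd' : ∀ c ∈ D'.base.support, IsDual D'.toSplitRed c)
variable [Nonempty S]
include hd hd'

theorem commIn_reflect {a : D.idx} (ha : a ∈ D.base.support) {c e : D.idx} (h : T.CommIn c e) :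
    T.CommIn (D.P.reflectionPerm a c) (D.P.reflectionPerm a e) := by
  intro X x y
  obtain ⟨f, hf, k⟩ := T.wl_conj_rt hd hd' ha c
  obtain ⟨f', hf', k'⟩ := T.wl_conj_rt hd hd' ha e
  have hmem : T.Sub X (Comb D c e) ≤
      (T.Sub X (Comb D (D.P.reflectionPerm a c) (D.P.reflectionPerm a e))).comap
        (MulAut.conj (T.wl X a)).toMonoidHom := by
    refine (Subgroup.closure_le _).mpr ?_
    rintro _ hz
    obtain ⟨d, hd0, z, rfl⟩ := Set.mem_iUnion₂.mp hz
    obtain ⟨i, j, hi, hj, hr⟩ := hd0
    obtain ⟨g, -, kd⟩ := T.wl_conj_rt hd hd' ha d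
    show T.wl X a * T.rt X d z * (T.wl X a)⁻¹ ∈ T.Sub X (Comb D (D.P.reflectionPerm a c) (D.P.reflectionPerm a e))
    rw [kd]
    exact T.rt_mem_sub (show D.P.reflectionPerm a d ∈ Comb D _ _ from ⟨i, j, hi, hj, by
      rw [RootPairing.root_reflectionPerm, hr, map_add, map_nsmul, map_nsmul, RootPairing.root_reflectionPerm,
        RootPairing.root_reflectionPerm]⟩) _
  have := Subgroup.mem_comap.mp (hmem (h X ((f : Γ(X.left, ⊤)) * x) ((f' : Γ(X.left, ⊤)) * y)))
  rw [MulEquiv.coe_toMonoidHom, MulAut.conj_apply] at this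
  have e1 : T.rt X (D.P.reflectionPerm a c) x = T.wl X a * T.rt X c ((f : Γ(X.left, ⊤)) * x) * (T.wl X a)⁻¹ := by
    rw [k, ← mul_assoc, Sim2.symm.sign_sq hf, one_mul]
  have e2 : T.rt X (D.P.reflectionPerm a e) y = T.wl X a * T.rt X e ((f' : Γ(X.left, ⊤)) * y) * (T.wl X a)⁻¹ := by
    rw [k', ← mul_assoc, Sim2.symm.sign_sq hf', one_mul]
  rw [e1, e2]
  convert this using 1
  group

theorem commIn_of_perm (l : List D.idx) (hl : ∀ a ∈ l, a ∈ D.base.support) {c e : D.idx}
    (h : T.CommIn (perm D l c) (perm D l e)) : T.CommIn c e := by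
  induction l generalizing c e with
  | nil => simpa [perm] using h
  | cons a l ih =>
    refine ih (fun b hb => hl b (List.mem_cons_of_mem _ hb)) ?_
    have := T.commIn_reflect hd hd' (hl a List.mem_cons_self) h
    simpa [perm_cons] using this

set_option maxHeartbeats 1000000 in
theorem commIn_span_of_le {a b : D.idx} (ha : a ∈ D.base.support) (hb : b ∈ D.base.support) (hne : a ≠ b)
    (hcase : (D.P.pairing b a = 0 ∧ D.P.pairing a b = 0) ∨ (D.P.pairing b a = -1 ∧ D.P.pairing a b = -1) ∨
      (D.P.pairing b a = -2 ∧ D.P.pairing a b = -1) ∨ (D.P.pairing b a = -3 ∧ D.P.pairing a b = -1))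
    {c e : D.idx} (hc : 0 < D.base.height c) (he : 0 < D.base.height e) (sc : InSpan D a b c) (se : InSpan D a b e) :
    T.CommIn c e := by
  have ca : D.P.root a = (1 : ℤ) • D.P.root a + (0 : ℤ) • D.P.root b := by simp
  have cb : D.P.root b = (0 : ℤ) • D.P.root a + (1 : ℤ) • D.P.root b := by simp
  have hm := (reflectionPerm_coord ca).2
  have hl := (reflectionPerm_coord cb).1
  rcases hcase with ⟨e1, e2⟩ | ⟨e1, e2⟩ | ⟨e1, e2⟩ | ⟨e1, e2⟩
  · have h := T.commIn_A1 hd hd' ha hb hne e1 e2
    have key : ∀ c, 0 < D.base.height c → InSpan D a b c → c = a ∨ c = b := fun c hc sc => by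
      rcases span_coord ha hb hne hc sc with q | q | ⟨i, j, hi, hj, -, hcomb⟩
      · exact .inl q
      · exact .inr q
      · have := comb_A1A1 D.base ha hb hne hcomb e1; omega
    rcases key c hc sc with rfl | rfl <;> rcases key e he se with rfl | rfl
    exacts [T.commIn_self hd hd' _, h, h.symm, T.commIn_self hd hd' _]
  · obtain ⟨h1, h2, h3⟩ := T.commIn_A2 hd hd' ha hb hne e1 e2
    have key : ∀ c, 0 < D.base.height c → InSpan D a b c → c = a ∨ c = b ∨ c = D.P.reflectionPerm b a :=
      fun c hc sc => by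
      rcases span_coord ha hb hne hc sc with q | q | ⟨i, j, hi, hj, hr, hcomb⟩
      · exact .inl q
      · exact .inr (.inl q)
      · obtain ⟨rfl, rfl⟩ := comb_A2 D.base ha hb hne hi hj hcomb e1 e2
        exact .inr (.inr (eq_of_root_eq (by rw [hr, hm, e2]; simp)))
    rcases key c hc sc with rfl | rfl | rfl <;> rcases key e he se with rfl | rfl | rfl
    exacts [T.commIn_self hd hd' _, h1.symm, h2, h1, T.commIn_self hd hd' _, h3, h2.symm, h3.symm,
      T.commIn_self hd hd' _]
  · obtain ⟨hba', hma, hal, hbm, hbl, hml⟩ := T.commIn_B2 hd hd' ha hb hne e1 e2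
    have key : ∀ c, 0 < D.base.height c → InSpan D a b c →
        c = a ∨ c = b ∨ c = D.P.reflectionPerm b a ∨ c = D.P.reflectionPerm a b := fun c hc sc => by
      rcases span_coord ha hb hne hc sc with q | q | ⟨i, j, hi, hj, hr, hcomb⟩
      · exact .inl q
      · exact .inr (.inl q)
      · obtain ⟨rfl, rfl | rfl⟩ := comb_B2 D.base ha hb hne hi hj hcomb e1 e2
        · exact .inr (.inr (.inl (eq_of_root_eq (by rw [hr, hm, e2]; simp))))
        · exact .inr (.inr (.inr (eq_of_root_eq (by rw [hr, hl, e1]; simp))))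
    rcases key c hc sc with rfl | rfl | rfl | rfl <;> rcases key e he se with rfl | rfl | rfl | rfl
    all_goals with_reducible first
      | exact T.commIn_self hd hd' _
      | assumption
      | exact CommIn.symm (by assumption)
  · obtain ⟨⟨r1, r2, r3, r4, r5⟩, ⟨q1, q2⟩, ⟨q3, q4, q5⟩, ⟨q6, q7⟩, ⟨q8, q9⟩, q10⟩ :=
      T.commIn_G2 hd hd' ha hb hne e1 e2
    have h1 : D.P.root (D.P.reflectionPerm b a) = (1 : ℤ) • D.P.root a + (1 : ℤ) • D.P.root b := by
      rw [hm, e2]; simp
    have h2 := (reflectionPerm_coord h1).1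
    have h3 : D.P.root (D.P.reflectionPerm a b) = (3 : ℤ) • D.P.root a + (1 : ℤ) • D.P.root b := by
      rw [hl, e1]; simp
    have h4 := (reflectionPerm_coord h3).2
    have key : ∀ c, 0 < D.base.height c → InSpan D a b c →
        c = a ∨ c = b ∨ c = D.P.reflectionPerm b a ∨ c = D.P.reflectionPerm a (D.P.reflectionPerm b a) ∨
          c = D.P.reflectionPerm a b ∨ c = D.P.reflectionPerm b (D.P.reflectionPerm a b) := fun c hc sc => by
      rcases span_coord ha hb hne hc sc with q | q | ⟨i, j, hi, hj, hr, hcomb⟩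
      · exact .inl q
      · exact .inr (.inl q)
      · rcases comb_G2 D.base ha hb hne hi hj hcomb e1 e2 with ⟨rfl, rfl | rfl | rfl⟩ | ⟨rfl, rfl⟩
        · exact .inr (.inr (.inl (eq_of_root_eq (by rw [hr, h1]))))
        · exact .inr (.inr (.inr (.inl (eq_of_root_eq (by rw [hr, h2, e1]; norm_num)))))
        · exact .inr (.inr (.inr (.inr (.inl (eq_of_root_eq (by rw [hr, h3]))))))
        · exact .inr (.inr (.inr (.inr (.inr (eq_of_root_eq (by rw [hr, h4, e2]; norm_num))))))
    rcases key c hc sc with rfl | rfl | rfl | rfl | rfl | rfl <;>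
      rcases key e he se with rfl | rfl | rfl | rfl | rfl | rfl
    all_goals with_reducible first
      | exact T.commIn_self hd hd' _
      | assumption
      | exact CommIn.symm (by assumption)

/-- The commutators of all pairs of roots which are not opposite. -/
theorem commIn_all {c e : D.idx} (hop : e ≠ neg' D.toSplitRed c) : T.CommIn c e := by
  by_cases hce : c = e
  · subst hce; exact T.commIn_self hd hd' c
  obtain ⟨l, a, b, hl, ha, hb, hne, hpc, hpe, sc, se⟩ := exists_simple_pair hce hop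
  refine T.commIn_of_perm hd hd' l hl ?_
  obtain ⟨m, hm, -⟩ := coxeter_mem hd ha hb hne
  rcases hm with ⟨e1, e2, -⟩ | ⟨e1, e2, -⟩ | ⟨e1, e2, -⟩ | ⟨e1, e2, -⟩ | ⟨e1, e2, -⟩ | ⟨e1, e2, -⟩
  · exact T.commIn_span_of_le hd hd' ha hb hne (.inl ⟨e1, e2⟩) hpc hpe sc se
  · exact T.commIn_span_of_le hd hd' ha hb hne (.inr (.inl ⟨e1, e2⟩)) hpc hpe sc se
  · exact T.commIn_span_of_le hd hd' ha hb hne (.inr (.inr (.inl ⟨e1, e2⟩))) hpc hpe sc se
  · exact T.commIn_span_of_le hd hd' hb ha hne.symm (.inr (.inr (.inl ⟨e2, e1⟩))) hpc hpe sc.swap se.swap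
  · exact T.commIn_span_of_le hd hd' ha hb hne (.inr (.inr (.inr ⟨e1, e2⟩))) hpc hpe sc se
  · exact T.commIn_span_of_le hd hd' hb ha hne.symm (.inr (.inr (.inr ⟨e2, e1⟩))) hpc hpe sc.swap se.swap

end Twist

end Groth.Agent.Twin38
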