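import Groth.Agent.Twin38.Table

/-! The relations of type G2 in characteristic three. -/

set_option autoImplicit false

universe u

open CategoryTheory CategoryTheory.Limits AlgebraicGeometry MonoidalCategory CartesianMonoidalCategory
open scoped MonObj Classical

noncomputable section

namespace Groth.Agent.Twin38

open GrpSchLib Rank2Red38

variable {S : Scheme.{u}} {G : Over S} [GrpObj G] {D : Red.Pinning G}

theorem swap_inv₄ {H : Type*} [Group H] {u v A B C E : H} (h : u * v = v * u * A * B * C * E) (hAB : B * A = A * B)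
    (hCE : Commute C E) : v * u = u * v * C⁻¹ * E⁻¹ * A⁻¹ * B⁻¹ := by
  have e1 : C⁻¹ * E⁻¹ = E⁻¹ * C⁻¹ := (hCE.inv_inv).eq
  have e2 : A⁻¹ * B⁻¹ = B⁻¹ * A⁻¹ := by rw [← mul_inv_rev, ← mul_inv_rev, hAB]
  rw [mul_assoc (u * v), e1, mul_assoc (u * v * (E⁻¹ * C⁻¹)), e2, h]
  group

variable {a b : D.idx} {X : Over S}

theorem m_neg (z : Γ(X.left, ⊤)) :
    G2Pinned.m1 X a b (-z) = (G2Pinned.m1 X a b z)⁻¹ ∧ G2Pinned.m2 X a b (-z) = (G2Pinned.m2 X a b z)⁻¹ ∧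
      G2Pinned.m3 X a b (-z) = (G2Pinned.m3 X a b z)⁻¹ ∧ G2Pinned.m4 X a b (-z) = (G2Pinned.m4 X a b z)⁻¹ := by
  simp [G2Pinned.m1, G2Pinned.m2, G2Pinned.m3, G2Pinned.m4, (U_oneParam D.toSplitRed (X := X) _).neg, mul_assoc]

theorem m_zero : G2Pinned.m1 X a b 0 = 1 ∧ G2Pinned.m2 X a b 0 = 1 ∧ G2Pinned.m3 X a b 0 = 1 ∧
    G2Pinned.m4 X a b 0 = 1 := by
  simp [G2Pinned.m1, G2Pinned.m2, G2Pinned.m3, G2Pinned.m4, (U_oneParam D.toSplitRed (X := X) _).zero]

variable (hd : ∀ c ∈ D.base.support, IsDual D.toSplitRed c) (ha : a ∈ D.base.support) (hb : b ∈ D.base.support)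
  (hne : a ≠ b) (hba : D.P.pairing b a = -3) (hab : D.P.pairing a b = -1) (h3 : (3 : Γ(X.left, ⊤)) = 0)
include hd ha hb hne hba hab h3

theorem G2_char3 (x y : Γ(X.left, ⊤)) :
    (U D.toSplitRed X a x * U D.toSplitRed X b y = U D.toSplitRed X b y * U D.toSplitRed X a x *
        G2Pinned.m3 X a b (-(x ^ 3 * y)) * G2Pinned.m4 X a b (-(x ^ 3 * y ^ 2)) *
        G2Pinned.m1 X a b (-(x * y)) * G2Pinned.m2 X a b (-(x ^ 2 * y))) ∧
      (G2Pinned.m1 X a b y * U D.toSplitRed X a x =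
        U D.toSplitRed X a x * G2Pinned.m1 X a b y * G2Pinned.m2 X a b (-(x * y))) ∧
      Commute (G2Pinned.m2 X a b y) (U D.toSplitRed X a x) ∧ Commute (G2Pinned.m2 X a b y) (G2Pinned.m1 X a b x) := by
  have c := fun x y => G2Pinned.commutators ha hb hne (hasNormalForm D.toSplitRed) hba hab (hd a ha) (hd b hb) X x y
  obtain ⟨z1, z2, z3, z4⟩ := m_zero (D := D) (a := a) (b := b) (X := X)
  have e5 : ∀ x y, Commute (G2Pinned.m2 X a b y) (G2Pinned.m1 X a b x) := fun x y => by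
    have h := (c x y).2.2.2.2
    rw [show (3 : Γ(X.left, ⊤)) * x * y = 0 by rw [h3, zero_mul, zero_mul], z4, mul_one] at h
    exact h
  refine ⟨?_, ?_, ?_, e5 x y⟩
  · obtain ⟨i1, -, -, -⟩ := m_neg (D := D) (a := a) (b := b) (X := X) (x * y)
    obtain ⟨-, i2, -, -⟩ := m_neg (D := D) (a := a) (b := b) (X := X) (x ^ 2 * y)
    obtain ⟨-, -, i3, -⟩ := m_neg (D := D) (a := a) (b := b) (X := X) (x ^ 3 * y)
    obtain ⟨-, -, -, i4⟩ := m_neg (D := D) (a := a) (b := b) (X := X) (x ^ 3 * y ^ 2)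
    rw [i1, i2, i3, i4]
    exact swap_inv₄ (c x y).1 (e5 _ _).eq (commute_G2 hd ha hb hne hba hab _ _).2.2.2.2
  · have h := (c x y).2.1
    rw [show (3 : Γ(X.left, ⊤)) * x ^ 2 * y = 0 by rw [h3, zero_mul, zero_mul],
      show (3 : Γ(X.left, ⊤)) * x * y ^ 2 = 0 by rw [h3, zero_mul, zero_mul], z3, z4, mul_one, mul_one,
      show (2 : Γ(X.left, ⊤)) * x * y = -(x * y) by linear_combination (x * y) * h3] at h
    exact h
  · have h := (c x y).2.2.1
    rw [show (3 : Γ(X.left, ⊤)) * x * y = 0 by rw [h3, zero_mul, zero_mul], z3, mul_one] at h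
    exact h

end Groth.Agent.Twin38
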