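import Groth.Agent.Twin38.Cell
import Groth.Agent.Rank2Red38.R1Cell

/-! Left multiplication of pairs over the cell by pairs of simple root elements. -/

set_option autoImplicit false
set_option linter.style.haveILetI false

universe u

open CategoryTheory CategoryTheory.Limits AlgebraicGeometry MonoidalCategory CartesianMonoidalCategory
open scoped MonObj Classical

noncomputable section

namespace Groth.Agent.Twin38

open GrpSchLib Rank2Red38

variable {S : Scheme.{u}} {G G' : Over S} [GrpObj G] [GrpObj G'] {D : Red.Pinning G} {D' : Red.Pinning G'}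

/-- An algebraically closed field has an element whose fourth power is neither zero nor one. -/
theorem exists_pow_four_ne (L : Type u) [Field L] [IsAlgClosed L] : ∃ z : L, z ≠ 0 ∧ z ^ 4 ≠ 1 := by
  obtain ⟨z, hz⟩ := Infinite.exists_notMem_finset
    ((Polynomial.X ^ 5 - Polynomial.X : Polynomial L).roots.toFinset)
  refine ⟨z, fun h => hz ?_, fun h => hz ?_⟩ <;> rw [Multiset.mem_toFinset, Polynomial.mem_roots']
  all_goals refine ⟨fun e => ?_, ?_⟩
  · simpa using congrArg (Polynomial.coeff · 1) e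
  · simp [Polynomial.IsRoot, h]
  · simpa using congrArg (Polynomial.coeff · 1) e
  · simp only [Polynomial.IsRoot, Polynomial.eval_sub, Polynomial.eval_pow, Polynomial.eval_X]
    linear_combination z * h

/-- A positive combination of a simple root and another negative root is such a root. -/
theorem comb_simple_neg [Nonempty S] {a e d : D.idx} (ha : a ∈ D.base.support)
    (he : e ∈ SgnSet D (-1)) (hne : e ≠ neg' D.toSplitRed a) (hd : d ∈ Comb D a e) :
    d ∈ SgnSet D (-1) ∧ d ≠ neg' D.toSplitRed a := by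
  simp only [SgnSet, Set.mem_setOf_eq] at he ⊢
  obtain ⟨i, j, hi, hj, hr⟩ := hd
  have hind := indep_of_ne (b := a) (c := e)
    (fun h : a = e => by subst h; rw [RootPairing.Base.height_one_of_mem_support ha] at he; omega) hne
  refine ⟨?_, fun h => ?_⟩
  swap
  · subst h
    rw [show D.P.root (neg' D.toSplitRed a) = _ from root_neg' D.toSplitRed a] at hr
    have := (hind (i + 1) j (by
      rw [add_smul, one_smul, natCast_zsmul, natCast_zsmul, add_right_comm, ← hr, neg_add_cancel])).2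
    omega
  obtain ⟨f, hsupp, hf, hs, -⟩ := coords (neg' D.toSplitRed e)
  have hs' := hs (by rw [height_neg']; omega)
  have hk : ∃ k ∈ D.base.support, k ≠ a ∧ f k ≠ 0 := by
    by_contra! h
    have e' : D.P.root (neg' D.toSplitRed e) = f a • D.P.root a := by
      rw [hf, Finset.sum_eq_single_of_mem a ha fun k hk hka => by rw [h k hk hka, zero_smul]]
    rw [show D.P.root (neg' D.toSplitRed e) = _ from root_neg' D.toSplitRed e] at e'
    have := (hind (f a) 1 (by rw [← e', one_smul, neg_add_cancel])).2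
    omega
  obtain ⟨k, hk, hka, hfk⟩ := hk
  let g : D.idx → ℤ := Pi.single a (i : ℤ) - (j : ℤ) • f
  have hg : D.P.root d = ∑ c ∈ D.base.support, g c • D.P.root c := by
    simp only [g, Pi.sub_apply, Pi.smul_apply, smul_eq_mul, sub_smul, mul_smul, Finset.sum_sub_distrib,
      ← Finset.smul_sum, ← hf]
    rw [Finset.sum_eq_single_of_mem a ha fun c _ hc => by simp [hc], Pi.single_eq_same,
      show D.P.root (neg' D.toSplitRed e) = _ from root_neg' D.toSplitRed e, hr]
    simp only [natCast_zsmul, smul_neg, sub_neg_eq_add]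
  have hgk : g k < 0 := by
    have h0 : 0 < f k := lt_of_le_of_ne (hs' k) (Ne.symm hfk)
    have hj' : (0 : ℤ) < j := by exact_mod_cast hj
    simp only [g, Pi.sub_apply, Pi.single_eq_of_ne hka, Pi.smul_apply, smul_eq_mul]
    nlinarith
  rcases D.base.pos_or_neg_of_sum_smul_root_mem g ⟨_, hg⟩ (fun c hc => by
    by_contra hcs
    refine hc ?_
    have hca : c ≠ a := fun h => hcs (h ▸ ha)
    simp [g, hca, hsupp c hcs]) with h | h
  · exact absurd (h.le k) (not_le.mpr hgk)
  · rw [RootPairing.Base.height_eq_sum hg]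
    have hsum : ∑ c ∈ D.base.support, g c ≤ g k := by
      rw [← Finset.add_sum_erase _ _ hk, add_le_iff_nonpos_right]
      exact Finset.sum_nonpos fun c _ => h.le c
    omega

namespace Twist

variable (T : Twist D D')
variable (hd : ∀ c ∈ D.base.support, IsDual D.toSplitRed c) (hd' : ∀ c ∈ D'.base.support, IsDual D'.toSplitRed c)
variable [Nonempty S]
include hd hd'

/-- The subgroup of a set with one more root normalising it. -/
theorem sub_split {X : Over S} {A : Set D.idx} {c : D.idx} (hop : ∀ e ∈ A, e ≠ neg' D.toSplitRed c)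
    (hA : ∀ e ∈ A, Comb D c e ⊆ A) {g : H2 G G' X} (hg : g ∈ T.Sub X (insert c A)) :
    ∃ n ∈ T.Sub X A, ∃ x, g = n * T.rt X c x := by
  have hN := fun (x : Γ(X.left, ⊤)) (n : H2 G G' X) => T.rt_conj_sub (A := A) hd hd' hop hA x (g := n)
  refine Subgroup.closure_induction (p := fun g _ => ∃ n ∈ T.Sub X A, ∃ x, g = n * T.rt X c x) ?_ ?_ ?_ ?_ hg
  · intro p hp
    obtain ⟨e, he, z, rfl⟩ := Set.mem_iUnion₂.mp hp
    rcases Set.mem_insert_iff.mp he with rfl | h
    · exact ⟨1, one_mem _, z, (one_mul _).symm⟩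
    · exact ⟨_, T.rt_mem_sub h z, 0, by rw [T.rt_zero hd hd', mul_one]⟩
  · exact ⟨1, one_mem _, 0, by rw [T.rt_zero hd hd', mul_one]⟩
  · rintro _ _ - - ⟨n, hn, x, rfl⟩ ⟨m, hm, y, rfl⟩
    refine ⟨_, mul_mem hn (hN x m hm), x + y, ?_⟩
    rw [T.rt_add hd hd']; group
  · rintro _ - ⟨n, hn, x, rfl⟩
    refine ⟨_, hN (-x) n⁻¹ (inv_mem hn), -x, ?_⟩
    rw [T.rt_neg hd hd']; group

variable {a : D.idx} (ha : a ∈ D.base.support)
include ha

theorem fu_mem_pos (X : Over S) (x : Γ(X.left, ⊤)) : T.fu a X x ∈ T.Sub X (SgnSet D 1) :=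
  (T.isFam_fu hd hd' ha (.inl rfl)).mem
    (show a ∈ SgnSet D 1 by simp [SgnSet, RootPairing.Base.height_one_of_mem_support ha]) x

theorem fu_mem_neg (X : Over S) (x : Γ(X.left, ⊤)) : T.fu (neg' D.toSplitRed a) X x ∈ T.Sub X (SgnSet D (-1)) :=
  (T.isFam_fu hd hd' ha (.inr rfl)).mem
    (show neg' D.toSplitRed a ∈ SgnSet D (-1) by
      simp [SgnSet, height_neg', RootPairing.Base.height_one_of_mem_support ha]) x

/-- The pair version of the rule of dual root groups. -/
theorem fu_rule (X : Over S) (x y : Γ(X.left, ⊤)) (z : Γ(X.left, ⊤)ˣ) (hz : (z : Γ(X.left, ⊤)) = 1 + x * y) :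
    T.fu a X x * T.fu (neg' D.toSplitRed a) X y =
      T.fu (neg' D.toSplitRed a) X (((z⁻¹ : Γ(X.left, ⊤)ˣ) : Γ(X.left, ⊤)) * y) *
        T.tor X (av D.toSplitRed X a z) * T.fu a X (((z⁻¹ : Γ(X.left, ⊤)ˣ) : Γ(X.left, ⊤)) * x) := by
  refine Prod.ext ((sys D.toSplitRed X (hd a ha)).rule x y z hz) ?_
  have h := (sys D'.toSplitRed X (hd' _ ((T.simple a).mp ha))).rule (T.th X a x) (T.th X a y) (z ^ T.q a)
    (by rw [Units.val_pow_eq_pow_val, hz, ← th_apply, map_add, map_one, map_mul])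
  show U D'.toSplitRed X (T.d a) _ * U D'.toSplitRed X (T.d (neg' D.toSplitRed a)) _ =
    U D'.toSplitRed X (T.d (neg' D.toSplitRed a)) _ * I D'.toSplitRed X (av D.toSplitRed X a z ≫ T.hT) *
      U D'.toSplitRed X (T.d a) _
  rw [T.d_neg, T.av_hT, T.th_refl, map_mul, map_mul, th_apply (x := ((z⁻¹ : Γ(X.left, ⊤)ˣ) : Γ(X.left, ⊤))),
    ← Units.val_pow_eq_pow_val, inv_pow]
  exact h

/-- If a product of opposite simple root elements is in the cell then the function is invertible. -/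
theorem isUnit_of_inK {X : Over S} (x y : Γ(X.left, ⊤)) {k : H2 G G' X} (hk : T.InK k)
    (h : U D.toSplitRed X a x * U D.toSplitRed X (neg' D.toSplitRed a) y = k.1) : IsUnit (1 + x * y) := by
  refine RankOne.isUnit_of_fields _ fun K _ b j hj => ?_
  let L := AlgebraicClosure K
  let θ : K →+* L := algebraMap K L
  let b' : Spec (CommRingCat.of L) ⟶ S := Spec.map (CommRingCat.ofHom θ) ≫ b
  let j' : Over.mk b' ⟶ X := RankOne.specHom (A := CommRingCat.of K) (B := CommRingCat.of L) (b := b) (b' := b') θ rfl ≫ j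
  let k0 := RankOne.sval b'
  have e : k0 (j'.left.appTop (1 + x * y)) = 0 := by
    show k0 ((RankOne.specHom (A := CommRingCat.of K) (B := CommRingCat.of L) (b := b) (b' := b') θ rfl).left.appTop
      (j.left.appTop (1 + x * y))) = 0
    rw [RankOne.sval_specHom, hj, map_zero]
  rw [map_add, map_add, map_one, map_one, map_mul, map_mul] at e
  set x₀ := j'.left.appTop x
  set y₀ := j'.left.appTop y
  have hxy' : x₀ * -y₀ = 1 := k0.injective (by rw [map_mul, map_neg, map_one]; linear_combination -e)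
  let v : (Γ((Over.mk b').left, ⊤))ˣ := Units.mkOfMulEqOne _ _ hxy'
  let Φ := sys D.toSplitRed (Over.mk b') (hd a ha)
  let k' := pull j' k * T.fu a (Over.mk b') x₀
  have hk' : T.InK k' := T.mul_pos_inK (T.fu_mem_pos hd hd' ha _ _) (T.pull_inK hd hd' j' hk)
  have hw : Φ.w v = k'.1 := by
    have e' := congrArg (j' ≫ ·) h
    simp only [comp_mul', comp_U] at e'
    show U D.toSplitRed _ a x₀ * U D.toSplitRed _ (neg' D.toSplitRed a) (-(((v⁻¹ : _ˣ)) : Γ((Over.mk b').left, ⊤))) *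
      U D.toSplitRed _ a x₀ = _
    rw [show -(((v⁻¹ : _ˣ)) : Γ((Over.mk b').left, ⊤)) = y₀ from neg_neg y₀]
    exact congrArg (· * U D.toSplitRed _ a x₀) e'
  obtain ⟨z0, hz0, hz4⟩ := exists_pow_four_ne L
  let z : (Γ((Over.mk b').left, ⊤))ˣ := Units.map k0.symm.toMonoidHom (Units.mk0 z0 hz0)
  let s := av D.toSplitRed (Over.mk b') a z
  obtain ⟨s', hs'⟩ : ∃ s', s' = (Φ.av (Φ.a s))⁻¹ * s := ⟨_, rfl⟩
  have hw' : Φ.w v * Φ.I s = Φ.I s' * Φ.w v := by
    rw [hs', map_mul, map_inv, ← Φ.w_conj v s]; group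
  rw [hw] at hw'
  obtain ⟨n, hn, t, m, hm, ek⟩ := hk'
  have ha1 : k' * T.tor _ s = n * T.tor _ (t * s) * ((T.tor _ s⁻¹) * m * (T.tor _ s⁻¹)⁻¹) := by
    rw [ek, map_mul, map_inv]; group
  have ha2 : T.tor _ s' * k' = (T.tor _ s' * n * (T.tor _ s')⁻¹) * T.tor _ (s' * t) * m := by
    rw [ek, map_mul]; group
  have huniq := (T.inK_unique hd hd' hn (T.tor_conj_sub hd hd' s' hn) (T.tor_conj_sub hd hd' s⁻¹ hm) hm (by
    rw [← ha1, ← ha2]; exact hw')).2.1
  have hav : Φ.av (Φ.a s) = 1 := by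
    rw [torus_comm D.toSplitRed t s] at huniq
    rw [hs'] at huniq
    simpa using mul_right_cancel huniq
  have h2 := congrArg Φ.a hav
  rw [Φ.a_av, map_one, show Φ.a s = z ^ (2 : ℕ) from by
    rw [← zpow_natCast]
    exact (rootVal_av D.toSplitRed a a z).trans (by rw [RootPairing.pairing_same]; rfl), ← pow_mul] at h2
  refine hz4 ?_
  have h3 := congrArg (fun w : _ˣ => k0 w.val) h2
  simpa [z, Units.val_pow_eq_pow_val] using h3

/-- Left multiplication by positive simple root pairs preserves pairs over the cell. -/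
theorem good_pos {X : Over S} (x : Γ(X.left, ⊤)) {g : H2 G G' X} (hg : T.InK g)
    (hw : ∃ w, w ≫ cell D = (T.fu a X x * g).1) : T.InK (T.fu a X x * g) := by
  obtain ⟨n, hn, t, m, hm, rfl⟩ := hg
  let A : Set D.idx := SgnSet D (-1) \ {neg' D.toSplitRed a}
  have hna : neg' D.toSplitRed a ∈ SgnSet D (-1) := by
    simp [SgnSet, height_neg', RootPairing.Base.height_one_of_mem_support ha]
  have hins : T.Sub X (SgnSet D (-1)) ≤ T.Sub X (insert (neg' D.toSplitRed a) A) :=
    T.sub_mono fun c hc => (em (c = neg' D.toSplitRed a)).imp id fun h => ⟨hc, h⟩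
  obtain ⟨n', hn', y', rfl⟩ := T.sub_split hd hd' (A := A) (fun e he => ne_neg_of_sgn hna he.1) (fun e he d hd0 => by
    obtain ⟨h1, h2, -⟩ := comb_sgn hna he.1 hd0
    exact ⟨h1, fun h : d = neg' D.toSplitRed a => by subst h; omega⟩) (hins hn)
  obtain ⟨y, ey⟩ := (T.isFam_fu hd hd' ha (.inr rfl)).exists_eq y'
  rw [ey] at hn hw ⊢
  obtain ⟨ε, -, efu⟩ := T.isFam_fu hd hd' ha (.inl rfl)
  have hn'' : T.fu a X x * n' * (T.fu a X x)⁻¹ ∈ T.Sub X A := by
    rw [efu]
    refine T.rt_conj_sub hd hd' (fun e he => he.2) (fun e he d hd0 => ?_) _ hn'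
    exact comb_simple_neg ha he.1 he.2 hd0
  have hA : T.Sub X A ≤ T.Sub X (SgnSet D (-1)) := T.sub_mono fun c hc => hc.1
  set n'' := T.fu a X x * n' * (T.fu a X x)⁻¹ with en
  have e0 : T.fu a X x * (n' * T.fu (neg' D.toSplitRed a) X y * T.tor X t * m) =
      n'' * (T.fu a X x * T.fu (neg' D.toSplitRed a) X y * T.tor X t * m) := by rw [en]; group
  rw [e0] at hw ⊢
  obtain ⟨w, hw⟩ := hw
  obtain ⟨k1, hk1, ek1⟩ := T.exists_pair hd hd' w
  have hk2 : T.InK (n''⁻¹ * k1 * m⁻¹ * T.tor X t⁻¹) :=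
    T.mul_tor_inK hd hd' _ (T.mul_pos_inK (inv_mem hm) (T.neg_mul_inK (inv_mem (hA hn'')) hk1))
  have e1 : U D.toSplitRed X a x * U D.toSplitRed X (neg' D.toSplitRed a) y =
      (n''⁻¹ * k1 * m⁻¹ * T.tor X t⁻¹).1 := by
    rw [Prod.fst_mul, Prod.fst_mul, Prod.fst_mul, ek1, hw, map_inv]
    simp only [Prod.fst_mul, Prod.fst_inv]
    show _ = _
    group
    rfl
  have hu := T.isUnit_of_inK hd hd' ha x y hk2 e1
  rw [T.fu_rule hd hd' ha X x y hu.unit hu.unit_spec]
  refine T.neg_mul_inK (hA hn'') (T.mul_pos_inK hm (T.mul_tor_inK hd hd' _ ?_))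
  exact ⟨_, T.fu_mem_neg hd hd' ha _ _, _, _, T.fu_mem_pos hd hd' ha _ _, rfl⟩

end Twist

end Groth.Agent.Twin38
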