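import Groth.Agent.Twin38.Sys
import Groth.Agent.Twin38.G2Swap

/-! Commutators of the pairs of root elements in the span of two simple roots. -/

set_option autoImplicit false
set_option linter.style.haveILetI false

universe u

open CategoryTheory CategoryTheory.Limits AlgebraicGeometry MonoidalCategory CartesianMonoidalCategory
open scoped MonObj Classical

noncomputable section

namespace Groth.Agent.Twin38

open GrpSchLib Rank2Red38

variable {S : Scheme.{u}} {G G' : Over S} [GrpObj G] [GrpObj G'] {D : Red.Pinning G} {D' : Red.Pinning G'}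

theorem swap_inv₂ {H : Type*} [Group H] {u v A B : H} (h : u * v = v * u * A * B) :
    v * u = u * v * B⁻¹ * A⁻¹ := by
  rw [h]; group

/-- The roots which are combinations of `c` and `e` with positive coefficients. -/
def Comb (D : Red.Pinning G) (c e : D.idx) : Set D.idx :=
  {d | ∃ i j : ℕ, 0 < i ∧ 0 < j ∧ D.P.root d = i • D.P.root c + j • D.P.root e}

theorem Comb.swap {c e d : D.idx} (h : d ∈ Comb D c e) : d ∈ Comb D e c := by
  obtain ⟨i, j, hi, hj, h⟩ := h
  exact ⟨j, i, hj, hi, by rw [h, add_comm]⟩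

theorem mem_comb_coord {a b c e d : D.idx} {i j k l m n : ℤ} (p r : ℕ) (hp : 0 < p) (hr : 0 < r)
    (hc : D.P.root c = i • D.P.root a + j • D.P.root b) (he : D.P.root e = k • D.P.root a + l • D.P.root b)
    (hd : D.P.root d = m • D.P.root a + n • D.P.root b) (hm : m = p * i + r * k) (hn : n = p * j + r * l) :
    d ∈ Comb D c e :=
  ⟨p, r, hp, hr, by rw [hd, hm, hn, hc, he]; module⟩

namespace Twist

variable (T : Twist D D')

/-- The subgroup of pairs generated by the pairs of root elements of a set of roots. -/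
def Sub (X : Over S) (A : Set D.idx) : Subgroup (H2 G G' X) :=
  Subgroup.closure (⋃ d ∈ A, Set.range (T.rt X d))

theorem rt_mem_sub {X : Over S} {A : Set D.idx} {d : D.idx} (h : d ∈ A) (z : Γ(X.left, ⊤)) :
    T.rt X d z ∈ T.Sub X A :=
  Subgroup.subset_closure (Set.mem_biUnion h ⟨z, rfl⟩)

theorem sub_mono {X : Over S} {A B : Set D.idx} (h : A ⊆ B) : T.Sub X A ≤ T.Sub X B :=
  Subgroup.closure_mono (Set.biUnion_subset_biUnion_left h)

/-- The commutators of two roots lie in the subgroup of their combinations. -/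
def CommIn (c e : D.idx) : Prop :=
  ∀ (X : Over S) (x y : Γ(X.left, ⊤)),
    (T.rt X c x)⁻¹ * (T.rt X e y)⁻¹ * T.rt X c x * T.rt X e y ∈ T.Sub X (Comb D c e)

/-- A family of pairs is that of the root `c`, up to sign. -/
def IsFam (c : D.idx) (P : ∀ X : Over S, Γ(X.left, ⊤) → H2 G G' X) : Prop :=
  ∃ ε : ℤ, (ε = 1 ∨ ε = -1) ∧ ∀ (X : Over S) (x : Γ(X.left, ⊤)), P X x = T.rt X c ((ε : Γ(X.left, ⊤)) * x)

variable {T}

theorem IsFam.mem {c : D.idx} {P : ∀ X : Over S, Γ(X.left, ⊤) → H2 G G' X} (h : T.IsFam c P) {X : Over S}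
    {A : Set D.idx} (hc : c ∈ A) (x : Γ(X.left, ⊤)) : P X x ∈ T.Sub X A := by
  obtain ⟨e, -, h⟩ := h
  rw [h]; exact T.rt_mem_sub hc _

theorem IsFam.exists_eq {c : D.idx} {P : ∀ X : Over S, Γ(X.left, ⊤) → H2 G G' X} (h : T.IsFam c P) {X : Over S}
    (x : Γ(X.left, ⊤)) : ∃ z, T.rt X c x = P X z := by
  obtain ⟨e, he, h⟩ := h
  refine ⟨(e : Γ(X.left, ⊤)) * x, ?_⟩
  rw [h, ← mul_assoc, Sim2.symm.sign_sq he, one_mul]

theorem IsFam.neg {c : D.idx} {P : ∀ X : Over S, Γ(X.left, ⊤) → H2 G G' X} (h : T.IsFam c P) :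
    T.IsFam c fun X x => P X (-x) := by
  obtain ⟨e, he, h⟩ := h
  exact ⟨-e, by omega, fun X x => by simp [h]⟩

theorem CommIn.symm {c e : D.idx} (h : T.CommIn c e) : T.CommIn e c := fun X x y => by
  have := inv_mem (h X y x)
  refine T.sub_mono (fun (d : D.idx) (hd : d ∈ Comb D c e) => Comb.swap hd) ?_
  convert this using 1
  group

theorem CommIn.of_rel {c e : D.idx} {P Q : ∀ X : Over S, Γ(X.left, ⊤) → H2 G G' X} (hP : T.IsFam c P)
    (hQ : T.IsFam e Q) (h : ∀ (X : Over S) (x y : Γ(X.left, ⊤)),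
      ∃ z ∈ T.Sub X (Comb D e c), Q X y * P X x = P X x * Q X y * z) : T.CommIn e c := fun X y x => by
  obtain ⟨x', ex⟩ := hP.exists_eq x
  obtain ⟨y', ey⟩ := hQ.exists_eq y
  obtain ⟨z, hz, e'⟩ := h X x' y'
  rw [ex, ey, mul_assoc _ (Q X y'), e']
  convert hz using 1
  group

theorem CommIn.of_commute {c e : D.idx} {P Q : ∀ X : Over S, Γ(X.left, ⊤) → H2 G G' X} (hP : T.IsFam c P)
    (hQ : T.IsFam e Q) (h : ∀ (X : Over S) (x y : Γ(X.left, ⊤)), Commute (P X x) (Q X y)) : T.CommIn c e :=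
  (CommIn.of_rel hP hQ fun X x y => ⟨1, one_mem _, by rw [(h X x y).eq, mul_one]⟩).symm

variable (T)

/-- The pair of given root elements. -/
def fu (c : D.idx) (X : Over S) (x : Γ(X.left, ⊤)) : H2 G G' X :=
  (U D.toSplitRed X c x, U D'.toSplitRed X (T.d c) (T.th X c x))

/-- The conjugate of a family by a pair of Weyl elements. -/
def fconj (a : D.idx) (P : ∀ X : Over S, Γ(X.left, ⊤) → H2 G G' X) (X : Over S) (x : Γ(X.left, ⊤)) : H2 G G' X :=
  T.wl X a * P X x * (T.wl X a)⁻¹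

theorem commute_prod {X : Over S} {p q : H2 G G' X} (h1 : Commute p.1 q.1) (h2 : Commute p.2 q.2) : Commute p q :=
  Prod.ext h1 h2

theorem glob_cast_zero (X : Over S) {n : ℕ} [n.AtLeastTwo] (h : (OfNat.ofNat n : Γ(S, ⊤)) = 0) :
    (OfNat.ofNat n : Γ(X.left, ⊤)) = 0 := by
  have := congrArg (glob X) h
  rwa [map_ofNat, map_zero] at this

variable (hd : ∀ c ∈ D.base.support, IsDual D.toSplitRed c) (hd' : ∀ c ∈ D'.base.support, IsDual D'.toSplitRed c)
variable [Nonempty S]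
include hd hd'

theorem isFam_fu {a c : D.idx} (ha : a ∈ D.base.support) (hc : c = a ∨ c = neg' D.toSplitRed a) :
    T.IsFam c (T.fu c) := by
  obtain ⟨e, he, h⟩ := T.rt_base hd hd' ha hc
  refine ⟨e, he, fun X x => ?_⟩
  rw [h, ← mul_assoc, Sim2.symm.sign_sq he, one_mul, map_mul, th_sign, ← mul_assoc, Sim2.symm.sign_sq he, one_mul]
  rfl

theorem isFam_fconj {a c : D.idx} (ha : a ∈ D.base.support) {P : ∀ X : Over S, Γ(X.left, ⊤) → H2 G G' X}
    (h : T.IsFam c P) : T.IsFam (D.P.reflectionPerm a c) (T.fconj a P) := by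
  obtain ⟨e, he, h⟩ := h
  obtain ⟨f, hf, k⟩ := T.wl_conj_rt hd hd' ha c
  refine ⟨f * e, by rcases he with rfl | rfl <;> rcases hf with rfl | rfl <;> simp, fun X x => ?_⟩
  rw [fconj, h, k, Int.cast_mul, mul_assoc]

theorem commIn_self (c : D.idx) : T.CommIn c c := fun X x y => by
  have h : T.rt X c x * T.rt X c y = T.rt X c y * T.rt X c x := by
    rw [← T.rt_add hd hd', ← T.rt_add hd hd', add_comm]
  have : (T.rt X c x)⁻¹ * (T.rt X c y)⁻¹ * T.rt X c x * T.rt X c y = 1 := by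
    rw [mul_assoc _ (T.rt X c x), h]; group
  rw [this]; exact one_mem _

variable {a b : D.idx} (ha : a ∈ D.base.support) (hb : b ∈ D.base.support) (hne : a ≠ b)
include ha hb hne

theorem commIn_A1 (hba : D.P.pairing b a = 0) (hab : D.P.pairing a b = 0) : T.CommIn a b :=
  CommIn.of_commute (T.isFam_fu hd hd' ha (.inl rfl)) (T.isFam_fu hd hd' hb (.inl rfl)) fun X x y =>
    commute_prod (commute_A1 ha hb hne hba x y)
      (commute_A1 ((T.simple a).mp ha) ((T.simple b).mp hb) (fun e => hne (T.d.injective e))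
        (T.cartan_A1 hba hab).1 (T.th X a x) (T.th X b y))

theorem commIn_A2 (hba : D.P.pairing b a = -1) (hab : D.P.pairing a b = -1) :
    T.CommIn b a ∧ T.CommIn a (D.P.reflectionPerm b a) ∧ T.CommIn b (D.P.reflectionPerm b a) := by
  obtain ⟨f1, f2, hq⟩ := T.cartan_A2 ha hb hne hba hab
  have ha' := (T.simple a).mp ha
  have hb' := (T.simple b).mp hb
  have hne' : T.d a ≠ T.d b := fun e => hne (T.d.injective e)
  have Fa := T.isFam_fu hd hd' ha (.inl rfl)
  have Fb := T.isFam_fu hd hd' hb (.inl rfl)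
  have Fm := T.isFam_fconj hd hd' hb Fa
  have hth : ∀ X, T.th X a = T.th X b := fun X => by ext x; rw [th_apply, th_apply, hq]
  have hm : D.P.root (D.P.reflectionPerm b a) = (1 : ℤ) • D.P.root a + (1 : ℤ) • D.P.root b := by
    rw [root_reflect, hab]; module
  refine ⟨CommIn.of_rel Fa Fb fun X x y =>
      ⟨T.fconj b (T.fu a) X (x * y), Fm.mem (mem_comb_coord (a := a) (b := b) (i := 0) (j := 1) (k := 1) (l := 0) 1 1
        one_pos one_pos (by simp) (by simp) hm (by norm_num) (by norm_num)) _, ?_⟩,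
    CommIn.of_commute Fa Fm fun X x y => commute_prod (commute_A2 hd ha hb hne hba hab x y).1
      (commute_A2 hd' ha' hb' hne' f1 f2 (T.th X a x) (T.th X a y)).1,
    CommIn.of_commute Fb Fm fun X x y => commute_prod (commute_A2 hd ha hb hne hba hab x y).2
      (commute_A2 hd' ha' hb' hne' f1 f2 (T.th X b x) (T.th X a y)).2⟩
  refine Prod.ext ((A2Pinned.relations (hasNormalForm D.toSplitRed) ha hb hne hba hab (hd a ha) (hd b hb) X).1 x y) ?_
  have h := (A2Pinned.relations (hasNormalForm D'.toSplitRed) ha' hb' hne' f1 f2 (hd' _ ha') (hd' _ hb') X).1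
    (T.th X a x) (T.th X b y)
  simp only [fu, fconj, wl, Prod.snd_mul, Prod.snd_inv, map_mul, hth] at h ⊢
  exact h

set_option maxHeartbeats 1000000 in
theorem commIn_B2 (hba : D.P.pairing b a = -2) (hab : D.P.pairing a b = -1) :
    let m := D.P.reflectionPerm b a
    let l := D.P.reflectionPerm a b
    T.CommIn b a ∧ T.CommIn m a ∧ T.CommIn a l ∧ T.CommIn b m ∧ T.CommIn b l ∧ T.CommIn m l := by
  intro m l
  have ha' := (T.simple a).mp ha
  have hb' := (T.simple b).mp hb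
  have hne' : T.d a ≠ T.d b := fun e => hne (T.d.injective e)
  have Fa := T.isFam_fu hd hd' ha (.inl rfl)
  have Fb := T.isFam_fu hd hd' hb (.inl rfl)
  have Fm := T.isFam_fconj hd hd' hb Fa
  have Fl := T.isFam_fconj hd hd' ha Fb
  have cb : D.P.root b = (0 : ℤ) • D.P.root a + (1 : ℤ) • D.P.root b := by simp
  have ca : D.P.root a = (1 : ℤ) • D.P.root a + (0 : ℤ) • D.P.root b := by simp
  have cm : D.P.root m = (1 : ℤ) • D.P.root a + (1 : ℤ) • D.P.root b := by rw [root_reflect, hab]; module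
  have cl : D.P.root l = (2 : ℤ) • D.P.root a + (1 : ℤ) • D.P.root b := by rw [root_reflect, hba]; module
  have Rel : ∀ (X : Over S) (x y : Γ(X.left, ⊤)),
      (T.fu b X y * T.fu a X x =
          T.fu a X x * T.fu b X y * T.fconj b (T.fu a) X (x * y) * T.fconj a (T.fu b) X (x ^ 2 * y)) ∧
        (T.fconj b (T.fu a) X y * T.fu a X x =
          T.fu a X x * T.fconj b (T.fu a) X y * T.fconj a (T.fu b) X (2 * x * y)) ∧
        Commute (T.fu a X x) (T.fconj a (T.fu b) X y) ∧ Commute (T.fu b X x) (T.fconj b (T.fu a) X y) ∧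
        Commute (T.fu b X x) (T.fconj a (T.fu b) X y) ∧
        Commute (T.fconj b (T.fu a) X x) (T.fconj a (T.fu b) X y) := by
    intro X x y
    obtain ⟨g1, g2, g3, g4⟩ := commute_B2 hd ha hb hne hba hab x y
    obtain ⟨r1, r2, -⟩ := B2Pinned.relations ha hb hne (hasNormalForm D.toSplitRed) hba hab (hd a ha) (hd b hb) X
    rcases T.cartan_r ha hb hne Nat.prime_two hba hab with ⟨f1, f2, hq⟩ | ⟨f1, f2, hq⟩
    · have hth : T.th X a = T.th X b := by ext z; rw [th_apply, th_apply, hq]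
      obtain ⟨k1, k2, k3, k4⟩ := commute_B2 hd' ha' hb' hne' f1 f2 (T.th X b x) (T.th X b y)
      obtain ⟨s1, s2, -⟩ :=
        B2Pinned.relations ha' hb' hne' (hasNormalForm D'.toSplitRed) f1 f2 (hd' _ ha') (hd' _ hb') X
      refine ⟨Prod.ext (r1 x y) ?_, Prod.ext (r2 x y) ?_, commute_prod g1 ?_, commute_prod g2 ?_,
        commute_prod g3 ?_, commute_prod g4 ?_⟩
      all_goals simp only [fu, fconj, wl, Prod.snd_mul, Prod.snd_inv, map_mul, map_pow, map_ofNat, hth]
      exacts [s1 _ _, s2 _ _, k1, k2, k3, k4]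
    · have h2 : (2 : Γ(X.left, ⊤)) = 0 := glob_cast_zero X (T.two_eq_zero hq)
      have hth : ∀ z, T.th X a z = T.th X b z ^ 2 := fun z => by rw [th_apply, th_apply, hq, ← pow_mul, mul_comm]
      have s1 := (B2Pinned.relations hb' ha' hne'.symm (hasNormalForm D'.toSplitRed) f2 f1 (hd' _ hb') (hd' _ ha') X).1
      have s2 := (B2Pinned.relations hb' ha' hne'.symm (hasNormalForm D'.toSplitRed) f2 f1 (hd' _ hb') (hd' _ ha') X).2.1
      have hneg : ∀ z : Γ(X.left, ⊤), -z = z := fun z => by linear_combination -z * h2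
      have kk := fun u v => commute_B2 hd' hb' ha' hne'.symm f2 f1 (X := X) u v
      have z0 : ∀ (c e : D'.idx), W D'.toSplitRed X c * U D'.toSplitRed X e 0 * (W D'.toSplitRed X c)⁻¹ = 1 :=
        fun c e => by rw [(U_oneParam D'.toSplitRed e).zero]; group
      refine ⟨Prod.ext (r1 x y) ?_, Prod.ext (r2 x y) ?_, commute_prod g1 ?_, commute_prod g2 ?_,
        commute_prod g3 ?_, commute_prod g4 ?_⟩
      all_goals simp only [fu, fconj, wl, Prod.snd_mul, Prod.snd_inv, map_mul, map_pow, map_ofNat, hth]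
      · set xi := T.th X b x
        set et := T.th X b y
        have h := s1 et (xi ^ 2)
        rw [show (xi * et) ^ 2 = et ^ 2 * xi ^ 2 by ring, show (xi ^ 2) * et = et * xi ^ 2 by ring]
        set A := W D'.toSplitRed X (T.d a) * U D'.toSplitRed X (T.d b) (et * xi ^ 2) * (W D'.toSplitRed X (T.d a))⁻¹
        set B := W D'.toSplitRed X (T.d b) * U D'.toSplitRed X (T.d a) (et ^ 2 * xi ^ 2) * (W D'.toSplitRed X (T.d b))⁻¹
        have iA : A⁻¹ = A := by
          simp only [A, mul_inv_rev, inv_inv, ← (U_oneParam D'.toSplitRed (T.d b)).neg, hneg, mul_assoc]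
        have iB : B⁻¹ = B := by
          simp only [B, mul_inv_rev, inv_inv, ← (U_oneParam D'.toSplitRed (T.d a)).neg, hneg, mul_assoc]
        exact (swap_inv₂ h).trans (by rw [iA, iB])
      · rw [h2, zero_mul, zero_mul, z0, mul_one]
        exact ((kk _ _).2.2.1).symm.eq
      · exact (kk _ _).2.1
      · exact (kk _ _).1
      · have h := s2 (T.th X b x) (T.th X b y)
        rw [h2, zero_mul, zero_mul, z0, mul_one] at h
        exact h.symm
      · exact ((kk _ _).2.2.2).symm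
  refine ⟨CommIn.of_rel Fa Fb fun X x y => ⟨_, mul_mem (Fm.mem ?_ _) (Fl.mem ?_ _),
      (Rel X x y).1.trans (mul_assoc _ _ _)⟩,
    CommIn.of_rel Fa Fm fun X x y => ⟨_, Fl.mem ?_ _, (Rel X x y).2.1⟩,
    CommIn.of_commute Fa Fl fun X x y => (Rel X x y).2.2.1,
    CommIn.of_commute Fb Fm fun X x y => (Rel X x y).2.2.2.1,
    CommIn.of_commute Fb Fl fun X x y => (Rel X x y).2.2.2.2.1,
    CommIn.of_commute Fm Fl fun X x y => (Rel X x y).2.2.2.2.2⟩
  · exact mem_comb_coord 1 1 one_pos one_pos cb ca cm (by norm_num) (by norm_num)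
  · exact mem_comb_coord 1 2 one_pos two_pos cb ca cl (by norm_num) (by norm_num)
  · exact mem_comb_coord 1 1 one_pos one_pos cm ca cl (by norm_num) (by norm_num)

set_option maxHeartbeats 2000000 in
theorem commIn_G2 (hba : D.P.pairing b a = -3) (hab : D.P.pairing a b = -1) :
    let m1 := D.P.reflectionPerm b a
    let m2 := D.P.reflectionPerm a m1
    let m3 := D.P.reflectionPerm a b
    let m4 := D.P.reflectionPerm b m3
    (T.CommIn b a ∧ T.CommIn m1 a ∧ T.CommIn m2 a ∧ T.CommIn m3 b ∧ T.CommIn m2 m1) ∧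
      (T.CommIn a m3 ∧ T.CommIn a m4) ∧ (T.CommIn b m1 ∧ T.CommIn b m2 ∧ T.CommIn b m4) ∧
      (T.CommIn m1 m3 ∧ T.CommIn m1 m4) ∧ (T.CommIn m2 m3 ∧ T.CommIn m2 m4) ∧ T.CommIn m3 m4 := by
  intro m1 m2 m3 m4
  have ha' := (T.simple a).mp ha
  have hb' := (T.simple b).mp hb
  have hne' : T.d a ≠ T.d b := fun e => hne (T.d.injective e)
  let A := T.fu a
  let B := T.fu b
  let M1 := T.fconj b A
  let M2 := T.fconj a M1
  let M3 := T.fconj a fun X x => B X (-x)
  let M4 := T.fconj b M3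
  have Fa : T.IsFam a A := T.isFam_fu hd hd' ha (.inl rfl)
  have Fb : T.IsFam b B := T.isFam_fu hd hd' hb (.inl rfl)
  have F1 : T.IsFam m1 M1 := T.isFam_fconj hd hd' hb Fa
  have F2 : T.IsFam m2 M2 := T.isFam_fconj hd hd' ha F1
  have F3 : T.IsFam m3 M3 := T.isFam_fconj hd hd' ha Fb.neg
  have F4 : T.IsFam m4 M4 := T.isFam_fconj hd hd' hb F3
  have cb : D.P.root b = (0 : ℤ) • D.P.root a + (1 : ℤ) • D.P.root b := by simp
  have ca : D.P.root a = (1 : ℤ) • D.P.root a + (0 : ℤ) • D.P.root b := by simp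
  have c1 : D.P.root m1 = (1 : ℤ) • D.P.root a + (1 : ℤ) • D.P.root b := by rw [root_reflect, hab]; module
  have c2 : D.P.root m2 = (2 : ℤ) • D.P.root a + (1 : ℤ) • D.P.root b := by
    rw [root_reflect, root_lin_pairing c1, RootPairing.pairing_same, hba, c1]; module
  have c3 : D.P.root m3 = (3 : ℤ) • D.P.root a + (1 : ℤ) • D.P.root b := by rw [root_reflect, hba]; module
  have c4 : D.P.root m4 = (3 : ℤ) • D.P.root a + (2 : ℤ) • D.P.root b := by
    rw [root_reflect, root_lin_pairing c3, RootPairing.pairing_same, hab, c3]; module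
  have Rel : ∀ (X : Over S) (x y : Γ(X.left, ⊤)),
      ((B X y * A X x = A X x * B X y * M1 X (x * y) * M2 X (x ^ 2 * y) * M3 X (x ^ 3 * y) * M4 X (x ^ 3 * y ^ 2)) ∧
        (M1 X y * A X x = A X x * M1 X y * M2 X (2 * x * y) * M3 X (3 * x ^ 2 * y) * M4 X (3 * x * y ^ 2)) ∧
        (M2 X y * A X x = A X x * M2 X y * M3 X (3 * x * y)) ∧
        (M3 X y * B X x = B X x * M3 X y * M4 X (-(x * y))) ∧
        (M2 X y * M1 X x = M1 X x * M2 X y * M4 X (3 * x * y))) ∧
      (Commute (A X x) (M3 X y) ∧ Commute (A X x) (M4 X y)) ∧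
      (Commute (B X x) (M1 X y) ∧ Commute (B X x) (M2 X y) ∧ Commute (B X x) (M4 X y)) ∧
      (Commute (M1 X x) (M3 X y) ∧ Commute (M1 X x) (M4 X y)) ∧
      (Commute (M2 X x) (M3 X y) ∧ Commute (M2 X x) (M4 X y)) ∧ Commute (M3 X x) (M4 X y) := by
    intro X x y
    obtain ⟨⟨g1, g2⟩, ⟨g3, g4, g5⟩, ⟨g6, g7⟩, ⟨g8, g9⟩, g10⟩ := commute_G2 hd ha hb hne hba hab x y
    obtain ⟨r1, r2, r3, r4, r5⟩ :=
      G2Pinned.commutators ha hb hne (hasNormalForm D.toSplitRed) hba hab (hd a ha) (hd b hb) X x y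
    have e3 : ∀ z, T.th X b (-z) = -T.th X b z := fun z => map_neg _ z
    rcases T.cartan_r ha hb hne Nat.prime_three hba hab with ⟨f1, f2, hq⟩ | ⟨f1, f2, hq⟩
    · have hth : T.th X a = T.th X b := by ext z; rw [th_apply, th_apply, hq]
      obtain ⟨⟨k1, k2⟩, ⟨k3, k4, k5⟩, ⟨k6, k7⟩, ⟨k8, k9⟩, k10⟩ :=
        commute_G2 hd' ha' hb' hne' f1 f2 (T.th X b x) (T.th X b y)
      obtain ⟨s1, s2, s3, s4, s5⟩ := G2Pinned.commutators ha' hb' hne' (hasNormalForm D'.toSplitRed) f1 f2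
        (hd' _ ha') (hd' _ hb') X (T.th X b x) (T.th X b y)
      refine ⟨⟨Prod.ext r1 ?_, Prod.ext r2 ?_, Prod.ext r3 ?_, Prod.ext r4 ?_, Prod.ext r5 ?_⟩,
        ⟨commute_prod g1 ?_, commute_prod g2 ?_⟩, ⟨commute_prod g3 ?_, commute_prod g4 ?_, commute_prod g5 ?_⟩,
        ⟨commute_prod g6 ?_, commute_prod g7 ?_⟩, ⟨commute_prod g8 ?_, commute_prod g9 ?_⟩, commute_prod g10 ?_⟩
      all_goals
        simp only [A, B, M1, M2, M3, M4, fu, fconj, wl, Prod.snd_mul, Prod.snd_inv, e3, map_mul, map_pow, map_ofNat,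
          map_neg, hth]
      exacts [s1, s2, s3, s4, s5, k1, k2, k3, k4, k5, k6, k7, k8, k9, k10]
    · have h3 : (3 : Γ(X.left, ⊤)) = 0 := glob_cast_zero X (T.three_eq_zero hq)
      have hth : ∀ z, T.th X a z = T.th X b z ^ 3 := fun z => by rw [th_apply, th_apply, hq, ← pow_mul, mul_comm]
      have kk := fun u v => commute_G2 hd' hb' ha' hne'.symm f2 f1 (X := X) u v
      have ss := fun u v => G2_char3 hd' hb' ha' hne'.symm f2 f1 h3 u v
      have r4' := fun u v => (G2Pinned.commutators hb' ha' hne'.symm (hasNormalForm D'.toSplitRed) f2 f1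
        (hd' _ hb') (hd' _ ha') X u v).2.2.2.1
      have w1 : ∀ z, (M1 X z).2 = G2Pinned.m3 X (T.d b) (T.d a) (-T.th X b z ^ 3) := fun z => by
        simp only [M1, A, fu, fconj, wl, Prod.snd_mul, Prod.snd_inv, hth, G2Pinned.m3, neg_neg]
      have w2 : ∀ z, (M2 X z).2 = G2Pinned.m4 X (T.d b) (T.d a) (-T.th X b z ^ 3) := fun z => by
        simp only [M2, M1, A, fu, fconj, wl, Prod.snd_mul, Prod.snd_inv, hth, G2Pinned.m4, G2Pinned.m3, neg_neg]
      have w3 : ∀ z, (M3 X z).2 = G2Pinned.m1 X (T.d b) (T.d a) (-T.th X b z) := fun z => by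
        simp only [M3, B, fu, fconj, wl, Prod.snd_mul, Prod.snd_inv, e3, G2Pinned.m1]
      have w4 : ∀ z, (M4 X z).2 = G2Pinned.m2 X (T.d b) (T.d a) (-T.th X b z) := fun z => by
        simp only [M4, M3, B, fu, fconj, wl, Prod.snd_mul, Prod.snd_inv, e3, G2Pinned.m2, G2Pinned.m1]
      obtain ⟨z1, z2, z3, z4⟩ := m_zero (D := D') (a := T.d b) (b := T.d a) (X := X)
      have wA : ∀ z, (A X z).2 = U D'.toSplitRed X (T.d a) (T.th X b z ^ 3) := fun z => by simp only [A, fu, hth]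
      have wB : ∀ z, (B X z).2 = U D'.toSplitRed X (T.d b) (T.th X b z) := fun z => by simp only [B, fu]
      have p3 : ∀ z w : Γ(X.left, ⊤), (T.th X b (3 * z * w)) = 0 := fun z w => by
        rw [h3, zero_mul, zero_mul, map_zero]
      refine ⟨⟨Prod.ext r1 ?_, Prod.ext r2 ?_, Prod.ext r3 ?_, Prod.ext r4 ?_, Prod.ext r5 ?_⟩,
        ⟨commute_prod g1 ?_, commute_prod g2 ?_⟩, ⟨commute_prod g3 ?_, commute_prod g4 ?_, commute_prod g5 ?_⟩,
        ⟨commute_prod g6 ?_, commute_prod g7 ?_⟩, ⟨commute_prod g8 ?_, commute_prod g9 ?_⟩, commute_prod g10 ?_⟩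
      all_goals simp only [Prod.snd_mul, wA, wB, w1, w2, w3, w4]
      · refine ((ss (T.th X b y) (T.th X b x ^ 3)).1).trans ?_
        simp only [map_mul, map_pow]
        refine congrArg₂ (· * ·) (congrArg₂ (· * ·) (congrArg₂ (· * ·) (congrArg₂ (· * ·) rfl ?_) ?_) ?_) ?_ <;>
          refine congrArg _ ?_ <;> ring
      · rw [p3, p3, neg_zero, z1, z2, mul_one, mul_one]
        refine (r4' (T.th X b x ^ 3) (-T.th X b y ^ 3)).trans ?_
        congr 2
        simp only [map_mul, map_ofNat]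
        linear_combination (3 * T.th X b x ^ 3 * T.th X b y ^ 3) * h3
      · rw [p3, neg_zero, z1, mul_one]
        exact ((kk _ _).2.1.2.2).symm.eq
      · refine ((ss (T.th X b x) (-T.th X b y)).2.1).trans ?_
        simp only [map_mul, map_neg, neg_neg, mul_neg]
      · rw [p3, neg_zero, z2, mul_one]
        exact ((kk _ _).2.2.2.2).symm.eq
      · exact (kk _ _).2.1.1
      · exact (kk _ _).2.1.2.1
      · exact (kk _ _).1.1
      · exact (kk _ _).1.2
      · exact ((ss _ _).2.2.1).symm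
      · exact ((kk _ _).2.2.1.1).symm
      · exact ((kk _ _).2.2.2.1.1).symm
      · exact ((kk _ _).2.2.1.2).symm
      · exact ((kk _ _).2.2.2.1.2).symm
      · exact ((ss _ _).2.2.2).symm
  refine ⟨⟨CommIn.of_rel Fa Fb fun X x y => ⟨_, mul_mem (mul_mem (mul_mem (F1.mem ?_ _) (F2.mem ?_ _))
        (F3.mem ?_ _)) (F4.mem ?_ _), (Rel X x y).1.1.trans (by simp only [mul_assoc]; rfl)⟩,
      CommIn.of_rel Fa F1 fun X x y => ⟨_, mul_mem (mul_mem (F2.mem ?_ _) (F3.mem ?_ _)) (F4.mem ?_ _),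
        (Rel X x y).1.2.1.trans (by simp only [mul_assoc]; rfl)⟩,
      CommIn.of_rel Fa F2 fun X x y => ⟨_, F3.mem ?_ _, (Rel X x y).1.2.2.1⟩,
      CommIn.of_rel Fb F3 fun X x y => ⟨_, F4.mem ?_ _, (Rel X x y).1.2.2.2.1⟩,
      CommIn.of_rel F1 F2 fun X x y => ⟨_, F4.mem ?_ _, (Rel X x y).1.2.2.2.2⟩⟩,
    ⟨CommIn.of_commute Fa F3 fun X x y => (Rel X x y).2.1.1, CommIn.of_commute Fa F4 fun X x y => (Rel X x y).2.1.2⟩,
    ⟨CommIn.of_commute Fb F1 fun X x y => (Rel X x y).2.2.1.1,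
      CommIn.of_commute Fb F2 fun X x y => (Rel X x y).2.2.1.2.1,
      CommIn.of_commute Fb F4 fun X x y => (Rel X x y).2.2.1.2.2⟩,
    ⟨CommIn.of_commute F1 F3 fun X x y => (Rel X x y).2.2.2.1.1,
      CommIn.of_commute F1 F4 fun X x y => (Rel X x y).2.2.2.1.2⟩,
    ⟨CommIn.of_commute F2 F3 fun X x y => (Rel X x y).2.2.2.2.1.1,
      CommIn.of_commute F2 F4 fun X x y => (Rel X x y).2.2.2.2.1.2⟩,
    CommIn.of_commute F3 F4 fun X x y => (Rel X x y).2.2.2.2.2⟩
  · exact mem_comb_coord 1 1 one_pos one_pos cb ca c1 (by norm_num) (by norm_num)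
  · exact mem_comb_coord 1 2 one_pos two_pos cb ca c2 (by norm_num) (by norm_num)
  · exact mem_comb_coord 1 3 one_pos three_pos cb ca c3 (by norm_num) (by norm_num)
  · exact mem_comb_coord 2 3 two_pos three_pos cb ca c4 (by norm_num) (by norm_num)
  · exact mem_comb_coord 1 1 one_pos one_pos c1 ca c2 (by norm_num) (by norm_num)
  · exact mem_comb_coord 1 2 one_pos two_pos c1 ca c3 (by norm_num) (by norm_num)
  · exact mem_comb_coord 2 1 two_pos one_pos c1 ca c4 (by norm_num) (by norm_num)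
  · exact mem_comb_coord 1 1 one_pos one_pos c2 ca c3 (by norm_num) (by norm_num)
  · exact mem_comb_coord 1 1 one_pos one_pos c3 cb c4 (by norm_num) (by norm_num)
  · exact mem_comb_coord 1 1 one_pos one_pos c2 c1 c4 (by norm_num) (by norm_num)

end Twist

end Groth.Agent.Twin38
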