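import Groth.Agent.Twin38.Twist
import Groth.Agent.Rank2Red38.Transport

/-! Pairs of representatives of corresponding roots of two pinned groups, up to a common sign. -/

set_option autoImplicit false
set_option linter.style.haveILetI false

universe u

open CategoryTheory CategoryTheory.Limits AlgebraicGeometry MonoidalCategory CartesianMonoidalCategory
open scoped MonObj Classical

noncomputable section

namespace Groth.Agent.Twin38

open GrpSchLib Rank2Red38

variable {S : Scheme.{u}} {G G' : Over S} [GrpObj G] [GrpObj G'] {D : Red.Pinning G} {D' : Red.Pinning G'}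

/-- Pairs of families. -/
abbrev Fam2 (G G' : Over S) := Fam G × Fam G'

/-- Pairs of elements. -/
abbrev Elt2 (G G' : Over S) := Elt G × Elt G'

/-- Conjugation of a pair of families by a pair of elements. -/
def act2 (g : Elt2 G G') (P : Fam2 G G') : Fam2 G G' := (act g.1 P.1, act g.2 P.2)

theorem act2_mul (g h : Elt2 G G') (P : Fam2 G G') : act2 (g * h) P = act2 g (act2 h P) :=
  Prod.ext (act_mul _ _ _) (act_mul _ _ _)

theorem act2_one (P : Fam2 G G') : act2 1 P = P := Prod.ext (act_one _) (act_one _)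

/-- Equality up to one and the same sign of the two parameters. -/
def Sim2 (P Q : Fam2 G G') : Prop :=
  ∃ ε : ℤ, (ε = 1 ∨ ε = -1) ∧ (∀ X x, P.1 X x = Q.1 X ((ε : Γ(X.left, ⊤)) * x)) ∧
    ∀ X x, P.2 X x = Q.2 X ((ε : Γ(X.left, ⊤)) * x)

omit [GrpObj G] [GrpObj G'] in
theorem Sim2.refl {P : Fam2 G G'} : Sim2 P P := ⟨1, .inl rfl, fun X x => by simp, fun X x => by simp⟩

omit [GrpObj G] [GrpObj G'] in
theorem Sim2.symm {P Q : Fam2 G G'} : Sim2 P Q → Sim2 Q P := fun ⟨e, he, h, h'⟩ =>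
  ⟨e, he, fun X x => by rw [h, ← mul_assoc, sign_sq he, one_mul], fun X x => by rw [h', ← mul_assoc, sign_sq he, one_mul]⟩
where
  sign_sq {X : Over S} {e : ℤ} (he : e = 1 ∨ e = -1) : (e : Γ(X.left, ⊤)) * e = 1 := by
    rcases he with rfl | rfl <;> simp

omit [GrpObj G] [GrpObj G'] in
theorem Sim2.trans {P Q R : Fam2 G G'} : Sim2 P Q → Sim2 Q R → Sim2 P R :=
  fun ⟨e, he, h, h'⟩ ⟨f, hf, k, k'⟩ =>
    ⟨f * e, by rcases he with rfl | rfl <;> rcases hf with rfl | rfl <;> simp,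
      fun X x => by rw [h, k, Int.cast_mul, mul_assoc], fun X x => by rw [h', k', Int.cast_mul, mul_assoc]⟩

theorem Sim2.act {P Q : Fam2 G G'} (g : Elt2 G G') : Sim2 P Q → Sim2 (act2 g P) (act2 g Q) :=
  fun ⟨e, he, h, h'⟩ => ⟨e, he, fun X x => by simp only [act2, Rank2Red38.act, h],
    fun X x => by simp only [act2, Rank2Red38.act, h']⟩

omit [GrpObj G] [GrpObj G'] in
/-- Two signs which agree as functions give a common sign. -/
theorem sim2_of_signs {P Q : Fam2 G G'} (e e' : ℤ) (he : e = 1 ∨ e = -1) (hee : (e : Γ(S, ⊤)) = (e' : Γ(S, ⊤)))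
    (h : ∀ X x, P.1 X x = Q.1 X ((e : Γ(X.left, ⊤)) * x))
    (h' : ∀ X x, P.2 X x = Q.2 X ((e' : Γ(X.left, ⊤)) * x)) : Sim2 P Q := by
  refine ⟨e, he, h, fun X x => ?_⟩
  have := congrArg (glob X) hee
  rw [map_intCast, map_intCast] at this
  rw [h', this]

namespace Twist

variable (T : Twist D D')

/-- The pair of Weyl elements. -/
def Wp (a : D.idx) : Elt2 G G' := (Wf D a, Wf D' (T.d a))

/-- The pair of values of coroots at `-1`. -/
def Zp (a : D.idx) : Elt2 G G' := (Zf D a, Zf D' (T.d a))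

/-- The subgroup generated by them. -/
def TS2 : Subgroup (Elt2 G G') := Subgroup.closure (Set.range T.Zp)

/-- The pair of root families. -/
def Up (c : D.idx) : Fam2 G G' := (Uf D c, Uf D' (T.d c))

theorem Zp_mem (a : D.idx) : T.Zp a ∈ T.TS2 := Subgroup.subset_closure ⟨a, rfl⟩

theorem Zp_mul_self (a : D.idx) : T.Zp a * T.Zp a = 1 :=
  Prod.ext (Zf_mul_self a) (Zf_mul_self (T.d a))

theorem sign_zpow (X : Over S) (n : ℤ) : ∃ e : ℤ, (e = 1 ∨ e = -1) ∧ (∀ R : Type u, ∀ _ : CommRing R,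
    (((-1 : Rˣ) ^ n : Rˣ) : R) = (e : R)) := by
  rcases Int.even_or_odd n with h | h
  · exact ⟨1, .inl rfl, fun R _ => by simp [h.neg_one_zpow]⟩
  · exact ⟨-1, .inr rfl, fun R _ => by simp [h.neg_one_zpow]⟩

theorem TS2_fix {g : Elt2 G G'} (hg : g ∈ T.TS2) (c : D.idx) (k k' : Γ(S, ⊤)) :
    Sim2 (act2 g (Uk D c k, Uk D' (T.d c) k')) (Uk D c k, Uk D' (T.d c) k') := by
  induction hg using Subgroup.closure_induction with
  | mem g hg =>
    obtain ⟨a, rfl⟩ := hg
    obtain ⟨e, he, h⟩ := sign_zpow (S := S) (𝟙_ (Over S)) (D.P.pairing c a)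
    refine sim2_of_signs e e he rfl (fun X x => ?_) fun X x => ?_
    · simp only [act2, Zp, act, Zf, Uk, conj_U, rootVal_av, h]
      congr 1; ring
    · simp only [act2, Zp, act, Uk]
      rw [← T.av_neg_one_hT, conj_U, T.rootVal_hT_th, rootVal_av, h, th_sign]
      congr 1; ring
  | one => rw [act2_one]; exact Sim2.refl
  | mul g g' _ _ h1 h2 => rw [act2_mul]; exact (h2.act g).trans h1
  | inv g _ h1 =>
    have := (h1.act g⁻¹).symm
    rwa [← act2_mul, inv_mul_cancel, act2_one] at this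

variable (hd : ∀ c ∈ D.base.support, IsDual D.toSplitRed c) (hd' : ∀ c ∈ D'.base.support, IsDual D'.toSplitRed c)

theorem mk_conj_mem {x : Elt2 G G'} (hx : ∀ a, x * T.Zp a * x⁻¹ ∈ T.TS2) {g : Elt2 G G'} (hg : g ∈ T.TS2) :
    x * g * x⁻¹ ∈ T.TS2 :=
  (Subgroup.closure_le (K := T.TS2.comap (MulAut.conj x).toMonoidHom)).mpr
    (by rintro _ ⟨a, rfl⟩; exact hx a) hg

include hd hd'

theorem Wp_sq {a : D.idx} (ha : a ∈ D.base.support) : T.Wp a * T.Wp a = T.Zp a :=
  Prod.ext (Wf_sq (hd a ha)) (Wf_sq (hd' _ ((T.simple a).mp ha)))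

theorem Wp_conj_Zp {a : D.idx} (ha : a ∈ D.base.support) (b : D.idx) :
    T.Wp a * T.Zp b * (T.Wp a)⁻¹ = T.Zp b * (T.Zp a ^ D.P.pairing a b)⁻¹ := by
  refine Prod.ext ?_ ?_
  · exact Wf_conj_Zf (hd a ha) b
  · refine funext fun X => ?_
    show W D'.toSplitRed X (T.d a) * Zf D' (T.d b) X * (W D'.toSplitRed X (T.d a))⁻¹ = _
    rw [← T.av_neg_one_hT X b, W_conj_torus D'.toSplitRed (hd' _ ((T.simple a).mp ha)), T.rootVal_hT, rootVal_av,
      map_mul, map_inv]
    show _ = Zf D' (T.d b) X * ((Zf D' (T.d a) X) ^ D.P.pairing a b)⁻¹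
    rw [T.av_neg_one_hT, ← zpow_natCast, ← zpow_mul, mul_comm (D.P.pairing a b), zpow_mul, zpow_natCast,
      T.neg_one_pow, map_zpow, map_zpow]
    rfl

theorem Wp_conj_mem {a : D.idx} (ha : a ∈ D.base.support) {g : Elt2 G G'} (hg : g ∈ T.TS2) :
    T.Wp a * g * (T.Wp a)⁻¹ ∈ T.TS2 :=
  T.mk_conj_mem (fun b => by
    rw [T.Wp_conj_Zp hd hd' ha b]; exact mul_mem (T.Zp_mem b) (inv_mem (zpow_mem (T.Zp_mem a) _))) hg

theorem Wp_conj_mem' {a : D.idx} (ha : a ∈ D.base.support) {g : Elt2 G G'} (hg : g ∈ T.TS2) :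
    (T.Wp a)⁻¹ * g * T.Wp a ∈ T.TS2 := by
  have e : (T.Wp a)⁻¹ * g * T.Wp a = (T.Zp a)⁻¹ * (T.Wp a * g * (T.Wp a)⁻¹) * T.Zp a := by
    rw [← T.Wp_sq hd hd' ha]; group
  rw [e]
  exact mul_mem (mul_mem (inv_mem (T.Zp_mem a)) (T.Wp_conj_mem hd hd' ha hg)) (T.Zp_mem a)

omit hd hd'

/-- Pairs of representatives obtained by common descents. -/
inductive PRep : D.idx → Fam2 G G' → Prop
  | base {a c : D.idx} (ha : a ∈ D.base.support) (hc : c = a ∨ c = neg' D.toSplitRed a) : PRep c (T.Up c)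
  | step {a c : D.idx} {P : Fam2 G G'} (ha : a ∈ D.base.support) (hc : Off D a c)
      (hp : 0 < D.base.height c * D.P.pairing c a) (h : PRep (D.P.reflectionPerm a c) P) : PRep c (act2 (T.Wp a) P)

theorem exists_prep (c : D.idx) : ∃ P, T.PRep c P := by
  induction hn : (D.base.height c).natAbs using Nat.strong_induction_on generalizing c with
  | _ n ih =>
    by_cases hs : ∃ a ∈ D.base.support, ¬ Off D a c
    · obtain ⟨a, ha, hca⟩ := hs
      rw [Off, not_and_or, not_not, not_not] at hca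
      exact ⟨_, .base ha hca⟩
    · push Not at hs
      obtain ⟨a, ha, h⟩ := exists_descent hs
      obtain ⟨P, hP⟩ := ih _ (hn ▸ natAbs_height_reflect ha (hs a ha) h) _ rfl
      exact ⟨_, .step ha (hs a ha) h hP⟩

theorem PRep.fst {c : D.idx} {P : Fam2 G G'} (h : T.PRep c P) : Rep D c P.1 := by
  induction h with
  | base ha hc => exact .base ha hc
  | step ha hc hp _ ih => exact .step ha hc hp ih

variable [Nonempty S]

theorem PRep.snd {c : D.idx} {P : Fam2 G G'} (h : T.PRep c P) : Rep D' (T.d c) P.2 := by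
  induction h with
  | @base a c ha hc =>
    refine .base ((T.simple a).mp ha) ?_
    rcases hc with rfl | rfl
    · exact .inl rfl
    · exact .inr (T.d_neg a)
  | @step a c P ha hc hp _ ih =>
    rw [T.refl_d] at ih
    exact .step ((T.simple a).mp ha) (T.off hc) (T.descends hp) ih

include hd hd'

theorem PRep.fix {c : D.idx} {P : Fam2 G G'} (h : T.PRep c P) {g : Elt2 G G'} (hg : g ∈ T.TS2) :
    Sim2 (act2 g P) P := by
  obtain ⟨k, -, e⟩ := (PRep.fst T h).scalar hd
  obtain ⟨k', -, e'⟩ := (PRep.snd T h).scalar hd'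
  rw [show P = (Uk D c k, Uk D' (T.d c) k') from Prod.ext e e']
  exact T.TS2_fix hg c k k'

end Twist

end Groth.Agent.Twin38
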