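import Groth.Agent.Twin38.Rep

/-! Relations between pairs of representatives in the span of two simple roots. -/

set_option autoImplicit false
set_option linter.style.haveILetI false

universe u

open CategoryTheory CategoryTheory.Limits AlgebraicGeometry MonoidalCategory CartesianMonoidalCategory
open scoped MonObj Classical

noncomputable section

namespace Groth.Agent.Twin38

open GrpSchLib Rank2Red38

variable {S : Scheme.{u}} {G G' : Over S} [GrpObj G] [GrpObj G'] {D : Red.Pinning G} {D' : Red.Pinning G'}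

theorem eq_prime_of_pow {p n m r : ℕ} (hr : r.Prime) (hp : 0 < p) (h : p ^ n = r * p ^ m) : p = r := by
  have h1 : p ≠ 1 := by rintro rfl; simp at h; exact hr.one_lt.ne h
  have hnm : m < n := by
    by_contra hh
    have := Nat.pow_le_pow_right hp (Nat.not_lt.mp hh)
    have := pow_pos hp m
    have := hr.two_le
    nlinarith
  obtain ⟨k, rfl⟩ : ∃ k, n = m + (k + 1) := ⟨n - m - 1, by omega⟩
  rw [pow_add, mul_comm, mul_left_inj' (pow_ne_zero m (by omega))] at h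
  have : p ∣ r := ⟨p ^ k, by rw [← h, pow_succ, mul_comm]⟩
  exact (hr.eq_one_or_self_of_dvd p this).resolve_left h1

namespace Twist

variable (T : Twist D D')

theorem prime_of_ratio {r : ℕ} (hr : r.Prime) {a b : D.idx} (h : T.q a = r * T.q b) : T.p = r := by
  obtain ⟨n, hn⟩ := T.q_pow a
  obtain ⟨m, hm⟩ := T.q_pow b
  rw [hn, hm] at h
  exact eq_prime_of_pow hr T.p_pos h

theorem two_eq_zero {a b : D.idx} (h : T.q a = 2 * T.q b) : (2 : Γ(S, ⊤)) = 0 := by
  have e := T.p_add (𝟙_ (Over S)) 1 1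
  rw [T.prime_of_ratio Nat.prime_two h] at e
  have : (2 : Γ((𝟙_ (Over S)).left, ⊤)) = 0 := by linear_combination e
  simpa using this

theorem three_eq_zero {a b : D.idx} (h : T.q a = 3 * T.q b) : (3 : Γ(S, ⊤)) = 0 := by
  obtain ⟨X', f, s, r, hf, hr⟩ := RankOne.exists_cover (𝟙_ (Over S))
  have e := T.p_add X' 1 (-(s : Γ(X'.left, ⊤)))
  rw [T.prime_of_ratio Nat.prime_three h] at e
  have h3 : (3 : Γ(X'.left, ⊤)) * ((s : Γ(X'.left, ⊤)) * r) = 0 := by
    rw [hr]; linear_combination -e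
  have h3' : (3 : Γ(X'.left, ⊤)) = 0 := (s.isUnit.mul r.isUnit).mul_left_eq_zero.mp h3
  have h4 : (GaPts.ptOfFn (3 : Γ((𝟙_ (Over S)).left, ⊤)) : 𝟙_ (Over S) ⟶ Red.Ga S) = GaPts.ptOfFn 0 := by
    rw [← cancel_epi f, RankOne.map_gaFn_ptOfFn, RankOne.map_gaFn_ptOfFn, map_ofNat, map_zero, h3']
  have h5 := congrArg Red.gaFn h4
  rw [GaPts.gaFn_ptOfFn, GaPts.gaFn_ptOfFn] at h5
  simpa using h5

theorem neg_one_eq_one (h2 : (2 : Γ(S, ⊤)) = 0) : ((-1 : ℤ) : Γ(S, ⊤)) = ((1 : ℤ) : Γ(S, ⊤)) := by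
  push_cast; linear_combination -h2

theorem Zf_eq_one {H : Over S} [GrpObj H] (E : Red.Pinning H) (h2 : (2 : Γ(S, ⊤)) = 0) (a : E.idx) : Zf E a = 1 := by
  funext X
  have h : (2 : Γ(X.left, ⊤)) = 0 := by
    have := congrArg (glob X) h2
    rwa [map_ofNat, map_zero] at this
  have e : (-1 : Γ(X.left, ⊤)ˣ) = 1 := Units.ext (by rw [Units.val_neg, Units.val_one]; linear_combination -h)
  show I E.toSplitRed X (av E.toSplitRed X a (-1)) = 1
  rw [e, map_one, map_one]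

section Cartan

variable {a b : D.idx}

theorem cartan_A1 (hba : D.P.pairing b a = 0) (hab : D.P.pairing a b = 0) :
    D'.P.pairing (T.d b) (T.d a) = 0 ∧ D'.P.pairing (T.d a) (T.d b) = 0 := by
  have h1 := T.pairing_eq b a
  have h2 := T.pairing_eq a b
  rw [hba, mul_zero, mul_eq_zero] at h1
  rw [hab, mul_zero, mul_eq_zero] at h2
  exact ⟨h1.resolve_left (by exact_mod_cast (T.q_pos a).ne'), h2.resolve_left (by exact_mod_cast (T.q_pos b).ne')⟩

theorem cartan_prod : D'.P.pairing (T.d b) (T.d a) * D'.P.pairing (T.d a) (T.d b) =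
    D.P.pairing b a * D.P.pairing a b := by
  refine mul_left_cancel₀ (a := (T.q a : ℤ) * T.q b) (by have := T.q_pos a; have := T.q_pos b; positivity) ?_
  linear_combination ((T.q b : ℤ) * D'.P.pairing (T.d a) (T.d b)) * T.pairing_eq b a +
    ((T.q b : ℤ) * D.P.pairing b a) * T.pairing_eq a b

variable (ha : a ∈ D.base.support) (hb : b ∈ D.base.support) (hne : a ≠ b)
include ha hb hne

theorem cartan_neg : D'.P.pairing (T.d b) (T.d a) ≤ 0 ∧ D'.P.pairing (T.d a) (T.d b) ≤ 0 :=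
  ⟨pairing_simple_nonpos ((T.simple b).mp hb) ((T.simple a).mp ha) fun e => hne (T.d.injective e).symm,
    pairing_simple_nonpos ((T.simple a).mp ha) ((T.simple b).mp hb) fun e => hne (T.d.injective e)⟩

theorem cartan_A2 (hba : D.P.pairing b a = -1) (hab : D.P.pairing a b = -1) :
    D'.P.pairing (T.d b) (T.d a) = -1 ∧ D'.P.pairing (T.d a) (T.d b) = -1 ∧ T.q a = T.q b := by
  have hp := T.cartan_prod (a := a) (b := b)
  obtain ⟨hx, hy⟩ := T.cartan_neg ha hb hne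
  rw [hba, hab, show (-1 : ℤ) * -1 = 1 by norm_num] at hp
  rcases Int.eq_one_or_neg_one_of_mul_eq_one hp with e | e
  · omega
  · rw [e] at hp
    have e' : D'.P.pairing (T.d a) (T.d b) = -1 := by omega
    have h1 := T.pairing_eq b a
    rw [e, hba] at h1
    exact ⟨e, e', by omega⟩

theorem cartan_r {r : ℕ} (hr : r.Prime) (hba : D.P.pairing b a = -r) (hab : D.P.pairing a b = -1) :
    (D'.P.pairing (T.d b) (T.d a) = -r ∧ D'.P.pairing (T.d a) (T.d b) = -1 ∧ T.q a = T.q b) ∨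
      (D'.P.pairing (T.d b) (T.d a) = -1 ∧ D'.P.pairing (T.d a) (T.d b) = -r ∧ T.q a = r * T.q b) := by
  have hp := T.cartan_prod (a := a) (b := b)
  obtain ⟨hx, hy⟩ := T.cartan_neg ha hb hne
  rw [hba, hab] at hp
  have h1 := T.pairing_eq b a
  have h2 := T.pairing_eq a b
  rw [hba] at h1
  rw [hab] at h2
  obtain ⟨x, hx'⟩ : ∃ x : ℕ, D'.P.pairing (T.d b) (T.d a) = -x := ⟨(-D'.P.pairing (T.d b) (T.d a)).toNat, by omega⟩
  obtain ⟨y, hy'⟩ : ∃ y : ℕ, D'.P.pairing (T.d a) (T.d b) = -y := ⟨(-D'.P.pairing (T.d a) (T.d b)).toNat, by omega⟩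
  rw [hx', hy'] at hp
  have hxy : x * y = r := by
    have : ((x * y : ℕ) : ℤ) = r := by push_cast; linear_combination hp
    exact_mod_cast this
  rw [hx'] at h1
  rw [hy'] at h2
  rcases hr.eq_one_or_self_of_dvd x ⟨y, hxy.symm⟩ with rfl | rfl
  · rw [one_mul] at hxy
    subst hxy
    refine .inr ⟨hx', hy', ?_⟩
    exact_mod_cast (by push_cast at h1 ⊢; linear_combination -h1 : (T.q a : ℤ) = y * T.q b)
  · have hy1 : y = 1 := (Nat.mul_eq_left hr.ne_zero).mp hxy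
    subst hy1
    exact .inl ⟨hx', by simpa using hy', by simpa using h2.symm⟩

end Cartan

variable (hd : ∀ c ∈ D.base.support, IsDual D.toSplitRed c) (hd' : ∀ c ∈ D'.base.support, IsDual D'.toSplitRed c)


variable [Nonempty S]

theorem d_pm (s : Bool) (a : D.idx) : T.d (pm D s a) = pm D' s (T.d a) := by
  cases s
  · exact T.d_neg a
  · rfl

theorem prep_pm {a : D.idx} (ha : a ∈ D.base.support) (s : Bool) : T.PRep (pm D s a) (T.Up (pm D s a)) := by
  refine .base ha ?_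
  cases s
  · exact .inr rfl
  · exact .inl rfl

include hd hd'

theorem act_self2 {a : D.idx} (ha : a ∈ D.base.support) :
    Sim2 (act2 (T.Wp a) (T.Up a)) (T.Up (neg' D.toSplitRed a)) := by
  refine sim2_of_signs (-1) (-1) (.inr rfl) rfl (fun X x => ?_) fun X x => ?_
  · rw [Int.cast_neg, Int.cast_one, neg_one_mul]; exact act_self_eq hd ha X x
  · rw [Int.cast_neg, Int.cast_one, neg_one_mul]
    show act (Wf D' (T.d a)) (Uf D' (T.d a)) X x = Uf D' (T.d (neg' D.toSplitRed a)) X (-x)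
    rw [T.d_neg]
    exact act_self_eq hd' ((T.simple a).mp ha) X x

theorem act_self2' {a : D.idx} (ha : a ∈ D.base.support) :
    Sim2 (act2 (T.Wp a) (T.Up (neg' D.toSplitRed a))) (T.Up a) := by
  refine ((T.act_self2 hd hd' ha).symm.act _).trans ?_
  rw [← act2_mul, T.Wp_sq hd hd' ha]
  exact (PRep.base ha (.inl rfl) : T.PRep a _).fix T hd hd' (T.Zp_mem a)

theorem act_orth2 {a b c : D.idx} (ha : a ∈ D.base.support) (hb : b ∈ D.base.support) (hne : a ≠ b)
    (hba : D.P.pairing b a = 0) (hc : c = b ∨ c = neg' D.toSplitRed b) :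
    Sim2 (act2 (T.Wp a) (T.Up c)) (T.Up c) := by
  refine sim2_of_signs 1 1 (.inl rfl) rfl (fun X x => ?_) fun X x => ?_
  · rw [Int.cast_one, one_mul]; exact act_orth_eq hd ha hb hne hba hc X x
  · rw [Int.cast_one, one_mul]
    refine act_orth_eq hd' ((T.simple a).mp ha) ((T.simple b).mp hb) (fun e => hne (T.d.injective e)) ?_ ?_ X x
    · exact (mul_eq_zero.mp ((T.pairing_eq b a).trans (by rw [hba, mul_zero]))).resolve_left
        (by exact_mod_cast (T.q_pos a).ne')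
    · rcases hc with rfl | rfl
      · exact .inl rfl
      · exact .inr (T.d_neg b)

section Pair

variable {a b : D.idx} (ha : a ∈ D.base.support) (hb : b ∈ D.base.support) (hne : a ≠ b)
include ha hb hne

theorem span2_A2 (hba : D.P.pairing b a = -1) (hab : D.P.pairing a b = -1) (s : Bool) :
    Sim2 (act2 (T.Wp a) (T.Up (pm D s b))) (act2 (T.Wp b) (T.Up (pm D s a))) := by
  obtain ⟨e1, e2, -⟩ := T.cartan_A2 ha hb hne hba hab
  refine sim2_of_signs (-1) (-1) (.inr rfl) rfl (fun X x => ?_) fun X x => ?_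
  · rw [Int.cast_neg, Int.cast_one, neg_one_mul]; exact span_A2_eq ha hb hne hd hba hab s X x
  · rw [Int.cast_neg, Int.cast_one, neg_one_mul]
    simp only [Up, act2, Wp, d_pm]
    exact span_A2_eq ((T.simple a).mp ha) ((T.simple b).mp hb) (fun e => hne (T.d.injective e)) hd' e1 e2 s X x

theorem span2_B2 (hba : D.P.pairing b a = -2) (hab : D.P.pairing a b = -1) (s : Bool) :
    Sim2 (act2 (T.Wp a) (act2 (T.Wp b) (T.Up (pm D s a)))) (act2 (T.Wp b) (T.Up (pm D s a))) ∧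
      Sim2 (act2 (T.Wp b) (act2 (T.Wp a) (T.Up (pm D s b)))) (act2 (T.Wp a) (T.Up (pm D s b))) := by
  obtain ⟨g1, g2⟩ := span_B2_eq ha hb hne hd hba hab s
  have hne' : T.d a ≠ T.d b := fun e => hne (T.d.injective e)
  rcases T.cartan_r ha hb hne Nat.prime_two hba hab with ⟨e1, e2, -⟩ | ⟨e1, e2, hq⟩
  · obtain ⟨k1, k2⟩ := span_B2_eq ((T.simple a).mp ha) ((T.simple b).mp hb) hne' hd' e1 e2 s
    refine ⟨sim2_of_signs (-1) (-1) (.inr rfl) rfl (fun X x => ?_) fun X x => ?_,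
      sim2_of_signs 1 1 (.inl rfl) rfl (fun X x => ?_) fun X x => ?_⟩ <;>
      simp only [Int.cast_neg, Int.cast_one, neg_one_mul, one_mul, Up, act2, Wp, d_pm]
    exacts [g1 X x, k1 X x, g2 X x, k2 X x]
  · obtain ⟨k1, k2⟩ := span_B2_eq ((T.simple b).mp hb) ((T.simple a).mp ha) hne'.symm hd' e2 e1 s
    have h2 := neg_one_eq_one (T.two_eq_zero hq)
    refine ⟨sim2_of_signs (-1) 1 (.inr rfl) h2 (fun X x => ?_) fun X x => ?_,
      sim2_of_signs 1 (-1) (.inl rfl) h2.symm (fun X x => ?_) fun X x => ?_⟩ <;>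
      simp only [Int.cast_neg, Int.cast_one, neg_one_mul, one_mul, Up, act2, Wp, d_pm]
    exacts [g1 X x, k2 X x, g2 X x, k1 X x]

theorem span2_G2 (hba : D.P.pairing b a = -3) (hab : D.P.pairing a b = -1) (s : Bool) :
    Sim2 (act2 (T.Wp b) (act2 (T.Wp a) (act2 (T.Wp b) (T.Up (pm D s a)))))
        (act2 (T.Wp a) (act2 (T.Wp b) (T.Up (pm D s a)))) ∧
      Sim2 (act2 (T.Wp a) (act2 (T.Wp b) (act2 (T.Wp a) (T.Up (pm D s b)))))
        (act2 (T.Wp b) (act2 (T.Wp a) (T.Up (pm D s b)))) := by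
  obtain ⟨g1, g2⟩ := span_G2_eq ha hb hne hd hba hab s
  have hne' : T.d a ≠ T.d b := fun e => hne (T.d.injective e)
  rcases T.cartan_r ha hb hne Nat.prime_three hba hab with ⟨e1, e2, -⟩ | ⟨e1, e2, -⟩
  · obtain ⟨k1, k2⟩ := span_G2_eq ((T.simple a).mp ha) ((T.simple b).mp hb) hne' hd' e1 e2 s
    refine ⟨sim2_of_signs 1 1 (.inl rfl) rfl (fun X x => ?_) fun X x => ?_,
      sim2_of_signs 1 1 (.inl rfl) rfl (fun X x => ?_) fun X x => ?_⟩ <;>
      simp only [Int.cast_one, one_mul, Up, act2, Wp, d_pm]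
    exacts [g1 X x, k1 X x, g2 X x, k2 X x]
  · obtain ⟨k1, k2⟩ := span_G2_eq ((T.simple b).mp hb) ((T.simple a).mp ha) hne'.symm hd' e2 e1 s
    refine ⟨sim2_of_signs 1 1 (.inl rfl) rfl (fun X x => ?_) fun X x => ?_,
      sim2_of_signs 1 1 (.inl rfl) rfl (fun X x => ?_) fun X x => ?_⟩ <;>
      simp only [Int.cast_one, one_mul, Up, act2, Wp, d_pm]
    exacts [g1 X x, k2 X x, g2 X x, k1 X x]

set_option maxHeartbeats 1000000 in
theorem coxeter2_mem : ∃ m, IsType (D.P.pairing b a) (D.P.pairing a b) m ∧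
    (alt (T.Wp a) (T.Wp b) m)⁻¹ * alt (T.Wp b) (T.Wp a) m ∈ T.TS2 := by
  obtain ⟨m, hm, -⟩ := coxeter_mem hd ha hb hne
  refine ⟨m, hm, alt_inv_mul_mem _ (fun z hz => T.Wp_conj_mem hd hd' ha hz) (fun z hz => T.Wp_conj_mem' hd hd' ha hz)
    (fun z hz => T.Wp_conj_mem hd hd' hb hz) (fun z hz => T.Wp_conj_mem' hd hd' hb hz)
    (T.Wp_sq hd hd' ha ▸ T.Zp_mem a) (T.Wp_sq hd hd' hb ▸ T.Zp_mem b) hm.m_cases ?_⟩
  have N := hasNormalForm D.toSplitRed
  have N' := hasNormalForm D'.toSplitRed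
  have ha' := (T.simple a).mp ha
  have hb' := (T.simple b).mp hb
  have hne' : T.d a ≠ T.d b := fun e => hne (T.d.injective e)
  have key : ∀ {n : ℕ} {g : Elt G} {g' : Elt G'}, (g, g') ∈ T.TS2 →
      (∀ X, (W D.toSplitRed X a * W D.toSplitRed X b) ^ n = g X) →
      (∀ X, (W D'.toSplitRed X (T.d a) * W D'.toSplitRed X (T.d b)) ^ n = g' X) →
      (T.Wp a * T.Wp b) ^ n ∈ T.TS2 := fun {n g g'} hmem h h' => by
    have e : (T.Wp a * T.Wp b) ^ n = (g, g') := by
      refine Prod.ext ?_ ?_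
      · funext X
        rw [Prod.pow_fst, Pi.pow_apply, Prod.fst_mul, Pi.mul_apply]
        exact h X
      · funext X
        rw [Prod.pow_snd, Pi.pow_apply, Prod.snd_mul, Pi.mul_apply]
        exact h' X
    rw [e]
    exact hmem
  rcases hm with ⟨e1, e2, rfl⟩ | ⟨e1, e2, rfl⟩ | ⟨e1, e2, rfl⟩ | ⟨e1, e2, rfl⟩ | ⟨e1, e2, rfl⟩ | ⟨e1, e2, rfl⟩
  · obtain ⟨f1, f2⟩ := T.cartan_A1 e1 e2
    have hmem : ((Zf D a * Zf D b, Zf D' (T.d a) * Zf D' (T.d b)) : Elt2 G G') ∈ T.TS2 := by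
      have h := mul_mem (T.Zp_mem a) (T.Zp_mem b)
      simp only [Zp, Prod.mk_mul_mk] at h
      exact h
    exact key hmem
      (fun X => (A1A1_coxeter N ha hb hne e1 e2 (hd a ha) (hd b hb) X).1)
      (fun X => (A1A1_coxeter N' ha' hb' hne' f1 f2 (hd' _ ha') (hd' _ hb') X).1)
  · obtain ⟨f1, f2, -⟩ := T.cartan_A2 ha hb hne e1 e2
    exact key (g := 1) (g' := 1) (one_mem _)
      (fun X => (A2Pinned.coxeter N ha hb hne e1 e2 (hd a ha) (hd b hb) X).1)
      (fun X => (A2Pinned.coxeter N' ha' hb' hne' f1 f2 (hd' _ ha') (hd' _ hb') X).1)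
  · rcases T.cartan_r ha hb hne Nat.prime_two e1 e2 with ⟨f1, f2, -⟩ | ⟨f1, f2, hq⟩
    · exact key (g := Zf D a) (g' := Zf D' (T.d a)) (T.Zp_mem a)
        (fun X => (B2Pinned.coxeter ha hb hne N e1 e2 (hd a ha) (hd b hb) X).1)
        (fun X => (B2Pinned.coxeter ha' hb' hne' N' f1 f2 (hd' _ ha') (hd' _ hb') X).1)
    · have h2 := T.two_eq_zero hq
      refine key (g := 1) (g' := 1) (one_mem _) (fun X => ?_) fun X => ?_
      · rw [(B2Pinned.coxeter ha hb hne N e1 e2 (hd a ha) (hd b hb) X).1]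
        exact congrFun (Zf_eq_one D h2 a) X
      · rw [(B2Pinned.coxeter hb' ha' hne'.symm N' f2 f1 (hd' _ hb') (hd' _ ha') X).2]
        exact congrFun (Zf_eq_one D' h2 (T.d b)) X
  · rcases T.cartan_r hb ha hne.symm Nat.prime_two e2 e1 with ⟨f2, f1, -⟩ | ⟨f2, f1, hq⟩
    · exact key (g := Zf D b) (g' := Zf D' (T.d b)) (T.Zp_mem b)
        (fun X => (B2Pinned.coxeter hb ha hne.symm N e2 e1 (hd b hb) (hd a ha) X).2)
        (fun X => (B2Pinned.coxeter hb' ha' hne'.symm N' f2 f1 (hd' _ hb') (hd' _ ha') X).2)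
    · have h2 := T.two_eq_zero hq
      refine key (g := 1) (g' := 1) (one_mem _) (fun X => ?_) fun X => ?_
      · rw [(B2Pinned.coxeter hb ha hne.symm N e2 e1 (hd b hb) (hd a ha) X).2]
        exact congrFun (Zf_eq_one D h2 b) X
      · rw [(B2Pinned.coxeter ha' hb' hne' N' f1 f2 (hd' _ ha') (hd' _ hb') X).1]
        exact congrFun (Zf_eq_one D' h2 (T.d a)) X
  · refine key (g := 1) (g' := 1) (one_mem _)
      (fun X => (G2Pinned.coxeter ha hb hne N e1 e2 (hd a ha) (hd b hb) X).1) fun X => ?_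
    rcases T.cartan_r ha hb hne Nat.prime_three e1 e2 with ⟨f1, f2, -⟩ | ⟨f1, f2, -⟩
    · exact (G2Pinned.coxeter ha' hb' hne' N' f1 f2 (hd' _ ha') (hd' _ hb') X).1
    · exact (G2Pinned.coxeter hb' ha' hne'.symm N' f2 f1 (hd' _ hb') (hd' _ ha') X).2
  · refine key (g := 1) (g' := 1) (one_mem _)
      (fun X => (G2Pinned.coxeter hb ha hne.symm N e2 e1 (hd b hb) (hd a ha) X).2) fun X => ?_
    rcases T.cartan_r hb ha hne.symm Nat.prime_three e2 e1 with ⟨f2, f1, -⟩ | ⟨f2, f1, -⟩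
    · exact (G2Pinned.coxeter hb' ha' hne'.symm N' f2 f1 (hd' _ hb') (hd' _ ha') X).2
    · exact (G2Pinned.coxeter ha' hb' hne' N' f1 f2 (hd' _ ha') (hd' _ hb') X).1

end Pair

end Twist

end Groth.Agent.Twin38
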