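import Groth.Agent.Twin38.Transport

/-! The pairs of root elements of two pinned groups, corresponding under a morphism of root data. -/

set_option autoImplicit false
set_option linter.style.haveILetI false

universe u

open CategoryTheory CategoryTheory.Limits AlgebraicGeometry MonoidalCategory CartesianMonoidalCategory
open scoped MonObj Classical

noncomputable section

namespace Groth.Agent.Twin38

open GrpSchLib Rank2Red38

variable {S : Scheme.{u}} {G G' : Over S} [GrpObj G] [GrpObj G'] {D : Red.Pinning G} {D' : Red.Pinning G'}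

/-- Pairs of points. -/
abbrev H2 (G G' : Over S) (X : Over S) := (X ⟶ G) × (X ⟶ G')

/-- Pullback of pairs of points. -/
def pull {X X' : Over S} (g : X' ⟶ X) : H2 G G' X →* H2 G G' X' :=
  MonoidHom.mk' (fun p => (g ≫ p.1, g ≫ p.2)) fun p q => Prod.ext (comp_mul' g p.1 q.1) (comp_mul' g p.2 q.2)

namespace Twist

variable (T : Twist D D')

/-- The chosen pair of representatives. -/
def rep (c : D.idx) : Fam2 G G' := (T.exists_prep c).choose

theorem prep_rep (c : D.idx) : T.PRep c (T.rep c) := (T.exists_prep c).choose_spec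

/-- The pair of root elements. -/
def rt (X : Over S) (c : D.idx) (x : Γ(X.left, ⊤)) : H2 G G' X := ((T.rep c).1 X x, (T.rep c).2 X (T.th X c x))

/-- The pair of torus elements. -/
def tor (X : Over S) : (X ⟶ D.T) →* H2 G G' X :=
  MonoidHom.mk' (fun t => (I D.toSplitRed X t, I D'.toSplitRed X (t ≫ T.hT))) fun t t' =>
    Prod.ext (map_mul _ _ _) (by
      show I D'.toSplitRed X ((t * t') ≫ T.hT) = I D'.toSplitRed X (t ≫ T.hT) * I D'.toSplitRed X (t' ≫ T.hT)
      rw [MonObj.mul_comp, map_mul])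

/-- The pair of Weyl elements. -/
def wl (X : Over S) (a : D.idx) : H2 G G' X := (W D.toSplitRed X a, W D'.toSplitRed X (T.d a))

/-- A pair of families gives pairs of points. -/
def pts (P : Fam2 G G') (X : Over S) (c : D.idx) (x : Γ(X.left, ⊤)) : H2 G G' X := (P.1 X x, P.2 X (T.th X c x))

theorem pts_sim {P Q : Fam2 G G'} (h : Sim2 P Q) (c : D.idx) : ∃ ε : ℤ, (ε = 1 ∨ ε = -1) ∧
    ∀ (X : Over S) (x : Γ(X.left, ⊤)), T.pts P X c x = T.pts Q X c ((ε : Γ(X.left, ⊤)) * x) := by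
  obtain ⟨e, he, h1, h2⟩ := h
  refine ⟨e, he, fun X x => Prod.ext (h1 X x) ?_⟩
  show P.2 X _ = Q.2 X _
  rw [h2, map_mul, th_sign]

variable (hd : ∀ c ∈ D.base.support, IsDual D.toSplitRed c) (hd' : ∀ c ∈ D'.base.support, IsDual D'.toSplitRed c)
variable [Nonempty S]
include hd hd'

theorem rt_eq (c : D.idx) : ∃ k : Γ(S, ⊤), IsUnit k ∧ ∃ k' : Γ(S, ⊤), IsUnit k' ∧
    ∀ (X : Over S) (x : Γ(X.left, ⊤)), T.rt X c x =
      (U D.toSplitRed X c (glob X k * x), U D'.toSplitRed X (T.d c) (glob X k' * T.th X c x)) := by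
  obtain ⟨k, hk, e⟩ := (PRep.fst T (T.prep_rep c)).scalar hd
  obtain ⟨k', hk', e'⟩ := (PRep.snd T (T.prep_rep c)).scalar hd'
  exact ⟨k, hk, k', hk', fun X x => Prod.ext (congrFun (congrFun e X) x) (congrFun (congrFun e' X) _)⟩

theorem rt_add (X : Over S) (c : D.idx) (x y : Γ(X.left, ⊤)) : T.rt X c (x + y) = T.rt X c x * T.rt X c y := by
  obtain ⟨k, -, k', -, e⟩ := T.rt_eq hd hd' c
  simp only [e, map_add, mul_add, (U_oneParam D.toSplitRed (X := X) c) _ _,
    (U_oneParam D'.toSplitRed (X := X) (T.d c)) _ _]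
  rfl

theorem rt_zero (X : Over S) (c : D.idx) : T.rt X c 0 = 1 := by
  have h := T.rt_add hd hd' X c 0 0
  rw [add_zero] at h
  exact left_eq_mul.mp h

theorem rt_neg (X : Over S) (c : D.idx) (x : Γ(X.left, ⊤)) : T.rt X c (-x) = (T.rt X c x)⁻¹ := by
  refine eq_inv_of_mul_eq_one_left ?_
  rw [← T.rt_add hd hd', neg_add_cancel, T.rt_zero hd hd']

theorem pull_rt {X X' : Over S} (g : X' ⟶ X) (c : D.idx) (x : Γ(X.left, ⊤)) :
    pull g (T.rt X c x) = T.rt X' c (g.left.appTop x) := by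
  obtain ⟨k, -, k', -, e⟩ := T.rt_eq hd hd' c
  simp only [pull, MonoidHom.mk'_apply, e, comp_U, map_mul, map_glob, map_th]

theorem tor_conj_rt (X : Over S) (t : X ⟶ D.T) (c : D.idx) (x : Γ(X.left, ⊤)) :
    T.tor X t * T.rt X c x * (T.tor X t)⁻¹ = T.rt X c (rootVal D.toSplitRed X c t * x) := by
  obtain ⟨k, -, k', -, e⟩ := T.rt_eq hd hd' c
  simp only [e]
  refine Prod.ext ?_ ?_
  · show I D.toSplitRed X t * U D.toSplitRed X c _ * (I D.toSplitRed X t)⁻¹ = _
    rw [conj_U]; dsimp only; congr 1; ring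
  · show I D'.toSplitRed X (t ≫ T.hT) * U D'.toSplitRed X (T.d c) _ * (I D'.toSplitRed X (t ≫ T.hT))⁻¹ = _
    rw [conj_U, T.rootVal_hT_th, map_mul]; dsimp only; congr 1; ring

/-- The simple Weyl pairs move the pairs of root elements. -/
theorem wl_conj_rt {a : D.idx} (ha : a ∈ D.base.support) (c : D.idx) : ∃ ε : ℤ, (ε = 1 ∨ ε = -1) ∧
    ∀ (X : Over S) (x : Γ(X.left, ⊤)), T.wl X a * T.rt X c x * (T.wl X a)⁻¹ =
      T.rt X (D.P.reflectionPerm a c) ((ε : Γ(X.left, ⊤)) * x) := by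
  obtain ⟨e, he, h⟩ := T.pts_sim (T.prep_act hd hd' ha (T.prep_rep c) (T.prep_rep (D.P.reflectionPerm a c))) c
  refine ⟨e, he, fun X x => ?_⟩
  have h' := h X x
  simp only [pts] at h'
  have e' : T.th X (D.P.reflectionPerm a c) = T.th X c := T.th_refl X a c
  refine Eq.trans ?_ (h'.trans ?_)
  · rfl
  · simp only [rt, e']

/-- On a simple root or its opposite the pair is the given one. -/
theorem rt_base {a c : D.idx} (ha : a ∈ D.base.support) (hc : c = a ∨ c = neg' D.toSplitRed a) :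
    ∃ ε : ℤ, (ε = 1 ∨ ε = -1) ∧ ∀ (X : Over S) (x : Γ(X.left, ⊤)), T.rt X c x =
      (U D.toSplitRed X c ((ε : Γ(X.left, ⊤)) * x), U D'.toSplitRed X (T.d c) ((ε : Γ(X.left, ⊤)) * T.th X c x)) := by
  obtain ⟨e, he, h⟩ := T.pts_sim (T.prep_unique hd hd' (T.prep_rep c) (PRep.base ha hc)) c
  refine ⟨e, he, fun X x => (h X x).trans ?_⟩
  show (_, U D'.toSplitRed X (T.d c) _) = _
  rw [map_mul, th_sign]
  rfl

end Twist

end Groth.Agent.Twin38
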