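import Groth.Agent.Rank2Red38.Transport

/-! Commuting root elements in the span of two simple roots, by the names of the roots. -/

set_option autoImplicit false
set_option linter.style.haveILetI false

universe u

open CategoryTheory CategoryTheory.Limits AlgebraicGeometry MonoidalCategory CartesianMonoidalCategory
open scoped MonObj Classical

noncomputable section

namespace Groth.Agent.Twin38

open GrpSchLib Rank2Red38

variable {S : Scheme.{u}} {G : Over S} [GrpObj G] {D : Red.Pinning G}

variable (D) in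
/-- An element of the root group with coordinates `(i, j)` in the span of `a` and `b`. -/
def OnCoord (a b : D.idx) (X : Over S) (i j : ℤ) (g : X ⟶ G) : Prop :=
  ∃ (c : D.idx) (z : Γ(X.left, ⊤)), D.P.root c = i • D.P.root a + j • D.P.root b ∧ g = U D.toSplitRed X c z

variable {a b : D.idx} {X : Over S}

theorem onCoord_a (x : Γ(X.left, ⊤)) : OnCoord D a b X 1 0 (U D.toSplitRed X a x) := ⟨a, x, by simp, rfl⟩

theorem onCoord_b (x : Γ(X.left, ⊤)) : OnCoord D a b X 0 1 (U D.toSplitRed X b x) := ⟨b, x, by simp, rfl⟩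

variable (hd : ∀ c ∈ D.base.support, IsDual D.toSplitRed c) (ha : a ∈ D.base.support) (hb : b ∈ D.base.support)
include hd

include ha in
theorem OnCoord.conj_left {i j : ℤ} {g : X ⟶ G} (h : OnCoord D a b X i j g) {i' : ℤ}
    (hi : i' = -i - j * D.P.pairing b a) :
    OnCoord D a b X i' j (W D.toSplitRed X a * g * (W D.toSplitRed X a)⁻¹) := by
  obtain ⟨c, z, hc, rfl⟩ := h
  obtain ⟨k, -, e⟩ := exists_scalar hd ha c
  refine ⟨D.P.reflectionPerm a c, glob X k * z, ?_, congrFun (congrFun e X) z⟩
  rw [root_reflect, root_lin_pairing hc, RootPairing.pairing_same, hc, hi]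
  module

include hb in
theorem OnCoord.conj_right {i j : ℤ} {g : X ⟶ G} (h : OnCoord D a b X i j g) {j' : ℤ}
    (hj : j' = -j - i * D.P.pairing a b) :
    OnCoord D a b X i j' (W D.toSplitRed X b * g * (W D.toSplitRed X b)⁻¹) := by
  obtain ⟨c, z, hc, rfl⟩ := h
  obtain ⟨k, -, e⟩ := exists_scalar hd hb c
  refine ⟨D.P.reflectionPerm b c, glob X k * z, ?_, congrFun (congrFun e X) z⟩
  rw [root_reflect, root_lin_pairing hc, RootPairing.pairing_same, hc, hj]
  module

variable (hne : a ≠ b)
include ha hb hne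

omit hd in
theorem OnCoord.commute {i j k l : ℤ} {g h : X ⟶ G} (hg : OnCoord D a b X i j g) (hh : OnCoord D a b X k l h)
    (h0 : ¬(i + k = 0 ∧ j + l = 0)) (hn : ¬ IsComb D.P a b (i + k) (j + l)) : Commute g h := by
  obtain ⟨c, z, hc, rfl⟩ := hg
  obtain ⟨e, w, he, rfl⟩ := hh
  have hsum : D.P.root c + D.P.root e = (i + k) • D.P.root a + (j + l) • D.P.root b := by rw [hc, he]; module
  refine U_comm_of_sum_not_root (D := D.toSplitRed) ?_ ?_ X z w
  · intro h
    exact h0 (indep_of_simple ha hb hne _ _ (hsum.symm.trans h))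
  · intro h
    exact hn (hsum ▸ h : _ ∈ Set.range D.P.root)

omit hd in
theorem commute_A1 (hba : D.P.pairing b a = 0) (x y : Γ(X.left, ⊤)) :
    Commute (U D.toSplitRed X a x) (U D.toSplitRed X b y) :=
  OnCoord.commute ha hb hne (onCoord_a x) (onCoord_b y) (by omega) fun h => by
    have := comb_A1A1 D.base ha hb hne h hba; omega

/-- The sum subgroup of type A2 commutes with both generators. -/
theorem commute_A2 (hba : D.P.pairing b a = -1) (hab : D.P.pairing a b = -1) (x y : Γ(X.left, ⊤)) :
    let m := W D.toSplitRed X b * U D.toSplitRed X a y * (W D.toSplitRed X b)⁻¹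
    Commute (U D.toSplitRed X a x) m ∧ Commute (U D.toSplitRed X b x) m := by
  intro m
  have hm : OnCoord D a b X 1 1 m := (onCoord_a y).conj_right hd hb (by rw [hab]; ring)
  refine ⟨(onCoord_a x).commute ha hb hne hm (by omega) fun h => ?_,
    (onCoord_b x).commute ha hb hne hm (by omega) fun h => ?_⟩ <;>
  · have := comb_A2 D.base ha hb hne (by omega) (by omega) h hba hab
    omega

/-- The commuting pairs of type B2, `a` short. -/
theorem commute_B2 (hba : D.P.pairing b a = -2) (hab : D.P.pairing a b = -1) (x y : Γ(X.left, ⊤)) :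
    let m := fun z => W D.toSplitRed X b * U D.toSplitRed X a z * (W D.toSplitRed X b)⁻¹
    let l := fun z => W D.toSplitRed X a * U D.toSplitRed X b z * (W D.toSplitRed X a)⁻¹
    Commute (U D.toSplitRed X a x) (l y) ∧ Commute (U D.toSplitRed X b x) (m y) ∧
      Commute (U D.toSplitRed X b x) (l y) ∧ Commute (m x) (l y) := by
  intro m l
  have hm : ∀ z, OnCoord D a b X 1 1 (m z) := fun z => (onCoord_a z).conj_right hd hb (by rw [hab]; ring)
  have hl : ∀ z, OnCoord D a b X 2 1 (l z) := fun z => (onCoord_b z).conj_left hd ha (by rw [hba]; ring)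
  refine ⟨(onCoord_a x).commute ha hb hne (hl y) (by omega) fun h => ?_,
    (onCoord_b x).commute ha hb hne (hm y) (by omega) fun h => ?_,
    (onCoord_b x).commute ha hb hne (hl y) (by omega) fun h => ?_,
    (hm x).commute ha hb hne (hl y) (by omega) fun h => ?_⟩ <;>
  · have := comb_B2 D.base ha hb hne (by omega) (by omega) h hba hab
    omega

/-- The commuting pairs of type G2, `a` short. -/
theorem commute_G2 (hba : D.P.pairing b a = -3) (hab : D.P.pairing a b = -1) (x y : Γ(X.left, ⊤)) :
    let m1 := G2Pinned.m1 X a b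
    let m2 := G2Pinned.m2 X a b
    let m3 := G2Pinned.m3 X a b
    let m4 := G2Pinned.m4 X a b
    (Commute (U D.toSplitRed X a x) (m3 y) ∧ Commute (U D.toSplitRed X a x) (m4 y)) ∧
      (Commute (U D.toSplitRed X b x) (m1 y) ∧ Commute (U D.toSplitRed X b x) (m2 y) ∧
        Commute (U D.toSplitRed X b x) (m4 y)) ∧
      (Commute (m1 x) (m3 y) ∧ Commute (m1 x) (m4 y)) ∧ (Commute (m2 x) (m3 y) ∧ Commute (m2 x) (m4 y)) ∧
      Commute (m3 x) (m4 y) := by
  intro m1 m2 m3 m4
  have h1 : ∀ z, OnCoord D a b X 1 1 (m1 z) := fun z => (onCoord_a z).conj_right hd hb (by rw [hab]; ring)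
  have h2 : ∀ z, OnCoord D a b X 2 1 (m2 z) := fun z => (h1 z).conj_left hd ha (by rw [hba]; ring)
  have h3 : ∀ z, OnCoord D a b X 3 1 (m3 z) := fun z => (onCoord_b (-z)).conj_left hd ha (by rw [hba]; ring)
  have h4 : ∀ z, OnCoord D a b X 3 2 (m4 z) := fun z => (h3 z).conj_right hd hb (by rw [hab]; ring)
  refine ⟨⟨(onCoord_a x).commute ha hb hne (h3 y) (by omega) fun h => ?_,
      (onCoord_a x).commute ha hb hne (h4 y) (by omega) fun h => ?_⟩,
    ⟨(onCoord_b x).commute ha hb hne (h1 y) (by omega) fun h => ?_,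
      (onCoord_b x).commute ha hb hne (h2 y) (by omega) fun h => ?_,
      (onCoord_b x).commute ha hb hne (h4 y) (by omega) fun h => ?_⟩,
    ⟨(h1 x).commute ha hb hne (h3 y) (by omega) fun h => ?_, (h1 x).commute ha hb hne (h4 y) (by omega) fun h => ?_⟩,
    ⟨(h2 x).commute ha hb hne (h3 y) (by omega) fun h => ?_, (h2 x).commute ha hb hne (h4 y) (by omega) fun h => ?_⟩,
    (h3 x).commute ha hb hne (h4 y) (by omega) fun h => ?_⟩ <;>
  · have := comb_G2 D.base ha hb hne (by omega) (by omega) h hba hab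
    omega

end Groth.Agent.Twin38
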