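import Groth.Agent.Twin38.Span

/-! Uniqueness of the pairs of representatives and their transport by the simple Weyl elements. -/

set_option autoImplicit false
set_option linter.style.haveILetI false

universe u

open CategoryTheory CategoryTheory.Limits AlgebraicGeometry MonoidalCategory CartesianMonoidalCategory
open scoped MonObj Classical

noncomputable section

namespace Groth.Agent.Twin38

open GrpSchLib Rank2Red38

variable {S : Scheme.{u}} {G G' : Over S} [GrpObj G] [GrpObj G'] {D : Red.Pinning G} {D' : Red.Pinning G'}

local notation "ht" => D.base.height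

namespace Twist

variable (T : Twist D D')

theorem chain_prep (n : ℕ) {a b : D.idx} (ha : a ∈ D.base.support) (hb : b ∈ D.base.support) (c : D.idx)
    {σ : ℤ} (hσ : σ = 1 ∨ σ = -1) (hs : 0 < σ * ht c) (hspan : ¬InSpan D a b c)
    (hdesc : Desc n (D.P.pairing b a) (D.P.pairing a b) (σ * D.P.pairing c a) (σ * D.P.pairing c b)) :
    ((ht (endR D a b n c)).natAbs + n ≤ (ht c).natAbs) ∧ 0 < σ * ht (endR D a b n c) ∧
      (∀ χ, T.PRep (endR D a b n c) χ → T.PRep c (act2 (alt (T.Wp a) (T.Wp b) n) χ)) ∧
      D.P.root (endR D a b n c) = D.P.root c -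
        ((σ * (coef n (D.P.pairing b a) (D.P.pairing a b) (σ * D.P.pairing c a) (σ * D.P.pairing c b)).1) • D.P.root a +
         (σ * (coef n (D.P.pairing b a) (D.P.pairing a b) (σ * D.P.pairing c a) (σ * D.P.pairing c b)).2) • D.P.root b) ∧
      σ * D.P.pairing (endR D a b n c) (if n % 2 = 0 then a else b) =
        nextVal n (D.P.pairing b a) (D.P.pairing a b) (σ * D.P.pairing c a) (σ * D.P.pairing c b) := by
  obtain ⟨q1, q2, -, q4, q5⟩ := chain_rep n ha hb c hσ hs hspan hdesc
  refine ⟨q1, q2, ?_, q4, q5⟩
  clear q1 q2 q4 q5
  induction n generalizing a b c with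
  | zero => exact fun χ h => by simpa [alt, act2_one, endR] using h
  | succ n ih =>
    obtain ⟨h1, h2⟩ := hdesc
    have hoff := off_of_not_inSpan hspan
    have hp : 0 < ht c * D.P.pairing c a := (mul_pos_sgn hσ hs).mpr h1
    have ex : σ * D.P.pairing (D.P.reflectionPerm a c) b =
        σ * D.P.pairing c b - σ * D.P.pairing c a * D.P.pairing a b := by rw [pairing_reflect]; ring
    have ey : σ * D.P.pairing (D.P.reflectionPerm a c) a = -(σ * D.P.pairing c a) := by
      rw [pairing_reflect, RootPairing.pairing_same]; ring
    have i3 := ih hb ha (D.P.reflectionPerm a c) (sgn_reflect hσ ha hoff hs)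
      (fun h => hspan h.swap.of_reflect) (by rw [ex, ey]; exact h2)
    intro χ h
    show T.PRep c (act2 (T.Wp a * alt (T.Wp b) (T.Wp a) n) χ)
    rw [act2_mul]
    exact .step ha hoff hp (i3 χ h)

variable (hd : ∀ c ∈ D.base.support, IsDual D.toSplitRed c) (hd' : ∀ c ∈ D'.base.support, IsDual D'.toSplitRed c)
variable [Nonempty S]

include hd hd'

theorem TS2_act {g h : Elt2 G G'} (hg : g⁻¹ * h ∈ T.TS2) {c : D.idx} {χ : Fam2 G G'} (hχ : T.PRep c χ) :
    Sim2 (act2 g χ) (act2 h χ) := by
  have e : act2 h χ = act2 g (act2 (g⁻¹ * h) χ) := by rw [← act2_mul, mul_inv_cancel_left]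
  rw [e]
  exact (((hχ.fix T hd hd' hg).act g)).symm

/-- Representatives are unique up to sign. -/
theorem prep_unique {c : D.idx} {φ φ' : Fam2 G G'} (h1 : T.PRep c φ) (h2 : T.PRep c φ') : Sim2 φ φ' := by
  induction hn : (ht c).natAbs using Nat.strong_induction_on generalizing c φ φ' with
  | _ n ih =>
    cases h1 with
    | base ha hca =>
      cases h2 with
      | base hb hcb => exact Sim2.refl
      | step hb hoff hp h => exact absurd hp (simple_no_descent hb ha hca hoff)
    | @step a _ ψ ha hca hpa hψ =>
      cases h2 with
      | base hb hcb => exact absurd hpa (simple_no_descent ha hb hcb hca)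
      | @step b _ ψ' hb hcb hpb hψ' =>
        have hlta : (ht (D.P.reflectionPerm a c)).natAbs < n := hn ▸ natAbs_height_reflect ha hca hpa
        have hltb : (ht (D.P.reflectionPerm b c)).natAbs < n := hn ▸ natAbs_height_reflect hb hcb hpb
        by_cases hne : a = b
        · subst hne
          exact (ih _ hlta hψ hψ' rfl).act _
        · by_cases hspan : InSpan D a b c
          · obtain ⟨e1, e2, s, ea, eb⟩ := span_two hd ha hb hne hca hcb hpa hpb hspan
            have ra : T.PRep (D.P.reflectionPerm a c) (T.Up (pm D s b)) := by rw [ea]; exact T.prep_pm hb s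
            have rb : T.PRep (D.P.reflectionPerm b c) (T.Up (pm D s a)) := by rw [eb]; exact T.prep_pm ha s
            have i1 := ih _ hlta hψ ra rfl
            have i2 := ih _ hltb hψ' rb rfl
            exact ((i1.act _).trans (T.span2_A2 hd hd' ha hb hne e1 e2 s)).trans (i2.act _).symm
          · obtain ⟨σ, hσ, hs⟩ := exists_sgn (D := D) c
            obtain ⟨m, hm, hmem⟩ := T.coxeter2_mem hd hd' ha hb hne
            have hx := (mul_pos_sgn hσ hs).mp hpa
            have hy := (mul_pos_sgn hσ hs).mp hpb
            obtain ⟨k, rfl⟩ : ∃ k, m = k + 1 := ⟨m - 1, by have := hm.m_cases; omega⟩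
            have hmb : IsType (D.P.pairing a b) (D.P.pairing b a) (k + 1) := hm.swap
            obtain ⟨-, -, A3, A4, -⟩ := T.chain_prep (k + 1) ha hb c hσ hs hspan (hm.desc hx hy)
            obtain ⟨-, -, B3, B4, -⟩ := T.chain_prep (k + 1) hb ha c hσ hs (fun h => hspan h.swap) (hmb.desc hy hx)
            have hend : endR D a b (k + 1) c = endR D b a (k + 1) c := eq_of_root_eq (by
              rw [A4, B4, hm.coef_swap]
              simp only [Prod.fst_swap, Prod.snd_swap]
              abel)
            have oa := off_of_not_inSpan hspan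
            have ob := off_of_not_inSpan (fun h => hspan h.swap : ¬InSpan D b a c)
            have ex : σ * D.P.pairing (D.P.reflectionPerm a c) b =
                σ * D.P.pairing c b - σ * D.P.pairing c a * D.P.pairing a b := by rw [pairing_reflect]; ring
            have ey : σ * D.P.pairing (D.P.reflectionPerm a c) a = -(σ * D.P.pairing c a) := by
              rw [pairing_reflect, RootPairing.pairing_same]; ring
            have ex' : σ * D.P.pairing (D.P.reflectionPerm b c) a =
                σ * D.P.pairing c a - σ * D.P.pairing c b * D.P.pairing b a := by rw [pairing_reflect]; ring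
            have ey' : σ * D.P.pairing (D.P.reflectionPerm b c) b = -(σ * D.P.pairing c b) := by
              rw [pairing_reflect, RootPairing.pairing_same]; ring
            obtain ⟨-, -, A', -, -⟩ := T.chain_prep k hb ha (D.P.reflectionPerm a c) hσ (sgn_reflect hσ ha oa hs)
              (fun h => hspan h.swap.of_reflect) (by rw [ex, ey]; exact (hm.desc hx hy).2)
            obtain ⟨-, -, B', -, -⟩ := T.chain_prep k ha hb (D.P.reflectionPerm b c) hσ (sgn_reflect hσ hb ob hs)
              (fun h => hspan h.swap.of_reflect.swap) (by rw [ex', ey']; exact (hmb.desc hy hx).2)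
            obtain ⟨χ, hχ⟩ := T.exists_prep (endR D a b (k + 1) c)
            have i1 := (ih _ hlta hψ (A' χ hχ) rfl).act (T.Wp a)
            have i2 := (ih _ hltb hψ' (B' χ (hend ▸ hχ)) rfl).act (T.Wp b)
            rw [← act2_mul] at i1 i2
            exact (i1.trans (TS2_act T hd hd' hmem hχ)).trans i2.symm


/-- A root in the span, fixed by one simple reflection and moved down by the other. -/
theorem prep_span_fix {a b c : D.idx} (ha : a ∈ D.base.support) (hb : b ∈ D.base.support) (hne : a ≠ b)
    (hca : Off D a c) (hcb : Off D b c) (hz : D.P.pairing c a = 0) (hpb : 0 < ht c * D.P.pairing c b)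
    (hspan : InSpan D a b c) : ∃ φ, T.PRep c φ ∧ Sim2 (act2 (T.Wp a) φ) φ := by
  obtain ⟨s, i, j, h, hi, hj, hl⟩ := span_cases hd ha hb hne hca hcb hspan
  have hz' := hz
  have hp' := hpb
  rw [root_lin_pairing h, RootPairing.pairing_same] at hz'
  rw [root_lin_height ha hb h, root_lin_pairing h, RootPairing.pairing_same] at hp'
  rcases hl with ⟨e1, e2, rfl, rfl⟩ | ⟨e1, e2, rfl, hl⟩ | ⟨e1, e2, rfl, hl⟩ | ⟨e1, e2, hl⟩ | ⟨e1, e2, hl⟩
  all_goals
    rw [e1] at hz'
    rw [e2] at hp'
  · exfalso; cases s <;> simp at hz' hp'
  · rcases hl with rfl | rfl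
    · have e : D.P.reflectionPerm b c = pm D s a := reflect_eq_of_root (by
        rw [root_lin_pairing h, RootPairing.pairing_same, e2, h, root_pm]; cases s <;> simp)
      exact ⟨_, .step hb hcb hpb (by rw [e]; exact T.prep_pm ha s), (T.span2_B2 hd hd' ha hb hne e1 e2 s).1⟩
    · exfalso; cases s <;> simp at hz' hp'
  · rcases hl with rfl | rfl
    · exfalso; cases s <;> simp at hz' hp'
    · have e : D.P.reflectionPerm b c = pm D s a := reflect_eq_of_root (by
        rw [root_lin_pairing h, RootPairing.pairing_same, e2, h, root_pm]; cases s <;> simp)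
      exact ⟨_, .step hb hcb hpb (by rw [e]; exact T.prep_pm ha s), (T.span2_B2 hd hd' hb ha hne.symm e2 e1 s).2⟩
  all_goals
    set d := D.P.reflectionPerm b c with hdd
    have hdroot : D.P.root d = _ := root_reflect b c
    rw [root_lin_pairing h, RootPairing.pairing_same, e2, h] at hdroot
  · rcases hl with ⟨rfl, rfl | rfl | rfl⟩ | ⟨rfl, rfl⟩
    rotate_right
    · have hd2 : D.P.root d = ((if s then (1 : ℤ) else -1) * 3) • D.P.root a +
          ((if s then (1 : ℤ) else -1) * 1) • D.P.root b := by rw [hdroot]; cases s <;> simp <;> module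
      have e : D.P.reflectionPerm a d = pm D s b := reflect_eq_of_root (by
        rw [root_lin_pairing hd2, RootPairing.pairing_same, e1, hd2, root_pm]; cases s <;> simp)
      have ho : Off D a d := ⟨fun q => by
          rw [q] at hd2
          have := indep_of_simple ha hb hne (((if s then (1 : ℤ) else -1) * 3) - 1) ((if s then (1 : ℤ) else -1) * 1)
            (by linear_combination (norm := module) -hd2)
          cases s <;> simp at this, fun q => by
          rw [q, show D.P.root (neg' D.toSplitRed a) = _ from root_neg' D.toSplitRed a] at hd2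
          have := indep_of_simple ha hb hne (((if s then (1 : ℤ) else -1) * 3) + 1) ((if s then (1 : ℤ) else -1) * 1)
            (by linear_combination (norm := module) -hd2)
          cases s <;> simp at this⟩
      refine ⟨_, .step hb hcb hpb (.step ha ho ?_ (by rw [e]; exact T.prep_pm hb s)), (T.span2_G2 hd hd' ha hb hne e1 e2 s).2⟩
      rw [root_lin_height ha hb hd2, root_lin_pairing hd2, RootPairing.pairing_same, e1]
      cases s <;> simp
    all_goals (exfalso; cases s <;> simp at hz' hp')
  · rcases hl with ⟨rfl, rfl | rfl | rfl⟩ | ⟨rfl, rfl⟩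
    rotate_left
    · have hd2 : D.P.root d = ((if s then (1 : ℤ) else -1) * 1) • D.P.root a +
          ((if s then (1 : ℤ) else -1) * 1) • D.P.root b := by rw [hdroot]; cases s <;> simp <;> module
      have e : D.P.reflectionPerm a d = pm D s b := reflect_eq_of_root (by
        rw [root_lin_pairing hd2, RootPairing.pairing_same, e1, hd2, root_pm]; cases s <;> simp)
      have ho : Off D a d := ⟨fun q => by
          rw [q] at hd2
          have := indep_of_simple ha hb hne (((if s then (1 : ℤ) else -1) * 1) - 1) ((if s then (1 : ℤ) else -1) * 1)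
            (by linear_combination (norm := module) -hd2)
          cases s <;> simp at this, fun q => by
          rw [q, show D.P.root (neg' D.toSplitRed a) = _ from root_neg' D.toSplitRed a] at hd2
          have := indep_of_simple ha hb hne (((if s then (1 : ℤ) else -1) * 1) + 1) ((if s then (1 : ℤ) else -1) * 1)
            (by linear_combination (norm := module) -hd2)
          cases s <;> simp at this⟩
      refine ⟨_, .step hb hcb hpb (.step ha ho ?_ (by rw [e]; exact T.prep_pm hb s)), (T.span2_G2 hd hd' hb ha hne.symm e2 e1 s).1⟩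
      rw [root_lin_height ha hb hd2, root_lin_pairing hd2, RootPairing.pairing_same, e1]
      cases s <;> simp
    all_goals (exfalso; cases s <;> simp at hz' hp')


/-- Simple Weyl elements move representatives to representatives, up to sign. -/
theorem prep_act {a c : D.idx} (ha : a ∈ D.base.support) {φ ψ : Fam2 G G'} (h : T.PRep c φ)
    (h' : T.PRep (D.P.reflectionPerm a c) ψ) : Sim2 (act2 (T.Wp a) φ) ψ := by
  induction hn : (ht c).natAbs using Nat.strong_induction_on generalizing a c φ ψ with
  | _ n ih =>
    by_cases h1 : c = a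
    · subst h1
      refine (((T.prep_unique hd hd' h (.base ha (.inl rfl))).act _).trans (T.act_self2 hd hd' ha)).trans ?_
      exact T.prep_unique hd hd' (PRep.base ha (.inr rfl)) h'
    by_cases h2 : c = neg' D.toSplitRed a
    · subst h2
      have e : D.P.reflectionPerm a (neg' D.toSplitRed a) = a := RootPairing.reflectionPerm_self _ _ _
      rw [e] at h'
      refine (((T.prep_unique hd hd' h (.base ha (.inr rfl))).act _).trans (T.act_self2' hd hd' ha)).trans ?_
      exact T.prep_unique hd hd' (PRep.base ha (.inl rfl)) h'
    have hoff : Off D a c := ⟨h1, h2⟩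
    rcases lt_trichotomy (ht c * D.P.pairing c a) 0 with hp | hp | hp
    · obtain ⟨σ, hσ, hs⟩ := exists_sgn (D := D) c
      refine T.prep_unique hd hd' (PRep.step ha ⟨fun q => h2 ?_, fun q => h1 ?_⟩ ?_
        (by rw [RootPairing.reflectionPerm_self]; exact h)) h'
      · exact (D.P.reflectionPerm a).injective (q.trans (RootPairing.reflectionPerm_self D.P a a).symm)
      · exact (D.P.reflectionPerm a).injective q
      · rw [mul_pos_sgn hσ (sgn_reflect hσ ha hoff hs), pairing_reflect, RootPairing.pairing_same]
        rcases hσ with rfl | rfl <;> nlinarith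
    · have hz : D.P.pairing c a = 0 := (mul_eq_zero.mp hp).resolve_left (D.base.height_ne_zero c)
      have hfix := reflect_fix hz
      rw [hfix] at h'
      by_cases hs : ∃ b ∈ D.base.support, ¬ Off D b c
      · obtain ⟨b, hb, hcb⟩ := hs
        rw [Off, not_and_or, not_not, not_not] at hcb
        have hne : a ≠ b := by
          rintro rfl
          rcases hcb with rfl | rfl
          · exact h1 rfl
          · exact h2 rfl
        have hba : D.P.pairing b a = 0 := by
          rcases hcb with rfl | rfl
          · exact hz
          · rwa [show D.P.pairing (neg' D.toSplitRed b) a = _ from RootPairing.pairing_reflectionPerm_self_left D.P b a,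
              neg_eq_zero] at hz
        refine (((T.prep_unique hd hd' h (.base hb hcb)).act _).trans (T.act_orth2 hd hd' ha hb hne hba hcb)).trans ?_
        exact T.prep_unique hd hd' (PRep.base hb hcb) h'
      · push Not at hs
        obtain ⟨b, hb, hpb⟩ := exists_descent hs
        have hne : a ≠ b := by rintro rfl; omega
        by_cases hspan : InSpan D a b c
        · obtain ⟨φ₀, r0, e0⟩ := T.prep_span_fix hd hd' ha hb hne hoff (hs b hb) hz hpb hspan
          exact (((T.prep_unique hd hd' h r0).act _).trans e0).trans (T.prep_unique hd hd' r0 h')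
        · obtain ⟨σ, hσ, hsg⟩ := exists_sgn (D := D) c
          have hy := (mul_pos_sgn hσ hsg).mp hpb
          obtain ⟨m, hm, hmem⟩ := T.coxeter2_mem hd hd' ha hb hne
          obtain ⟨k, rfl⟩ : ∃ k, m = k + 1 := ⟨m - 1, by have := hm.m_cases; omega⟩
          obtain ⟨d1, d2⟩ := hm.desc_zero hy
          rw [Nat.add_sub_cancel] at d1 d2
          have hx0 : σ * D.P.pairing c a = 0 := by rw [hz, mul_zero]
          obtain ⟨B1, -, B3, -, B5⟩ := T.chain_prep k hb ha c hσ hsg (fun h => hspan h.swap) (by rw [hx0]; exact d1)
          rw [hx0, d2] at B5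
          set e := if k % 2 = 0 then b else a with he
          have hez : D.P.pairing (endR D b a k c) e = 0 :=
            (mul_eq_zero.mp B5).resolve_left (by rcases hσ with rfl | rfl <;> decide)
          have hes : e ∈ D.base.support := by rw [he]; split_ifs <;> assumption
          obtain ⟨χ, hχ⟩ := T.exists_prep (endR D b a k c)
          have hk : 0 < k := by have := hm.m_cases; omega
          have iχ := ih _ (by omega) hes hχ (by rw [reflect_fix hez]; exact hχ) rfl
          have r0 := B3 χ hχ
          refine ((T.prep_unique hd hd' h r0).act _).trans ?_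
          rw [← act2_mul]
          refine (TS2_act T hd hd' (g := alt (T.Wp a) (T.Wp b) (k + 1)) hmem hχ).trans ?_
          rw [alt_succ_last, act2_mul, show (if k % 2 = 0 then T.Wp b else T.Wp a) = T.Wp e from (apply_ite _ _ _ _).symm]
          exact (iχ.act _).trans (T.prep_unique hd hd' r0 h')
    · obtain ⟨χ, hχ⟩ := T.exists_prep (D.P.reflectionPerm a c)
      refine ((T.prep_unique hd hd' h (.step ha hoff hp hχ)).act _).trans ?_
      rw [← act2_mul, T.Wp_sq hd hd' ha]
      exact (hχ.fix T hd hd' (T.Zp_mem a)).trans (T.prep_unique hd hd' hχ h')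


end Twist

end Groth.Agent.Twin38
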