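import Groth.Agent.Rank2Red38.Generate
import Groth.Agent.RootData.PMorphism
import Groth.Agent.RedRk29.Geom

/-! Morphisms of pinned root data with radicial exponents, and the induced maps of functions and of tori. -/

set_option autoImplicit false
set_option linter.style.haveILetI false

universe u

open CategoryTheory CategoryTheory.Limits AlgebraicGeometry MonoidalCategory CartesianMonoidalCategory
open scoped MonObj Classical

noncomputable section

namespace Groth.Agent.Twin38

open GrpSchLib Rank2Red38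

variable {S : Scheme.{u}} {G G' : Over S} [GrpObj G] [GrpObj G']

/-- A morphism of pinned root data with exponents, from the datum of `D'` to that of `D`. -/
structure Twist (D : Red.Pinning G) (D' : Red.Pinning G') where
  p : ℕ
  p_pos : 0 < p
  p_add : ∀ (X : Over S) (a b : Γ(X.left, ⊤)), (a + b) ^ p = a ^ p + b ^ p
  hM : D'.M →ₗ[ℤ] D.M
  d : D.idx ≃ D'.idx
  q : D.idx → ℕ
  q_pow : ∀ a, ∃ n : ℕ, q a = p ^ n
  root : ∀ a, hM (D'.P.root (d a)) = (q a : ℤ) • D.P.root a
  coroot : ∀ a, hM.dualMap (D.P.coroot a) = (q a : ℤ) • D'.P.coroot (d a)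
  simple : ∀ a, a ∈ D.base.support ↔ d a ∈ D'.base.support

theorem pow_add_pow {R : Type*} [CommRing R] {p : ℕ} (h : ∀ a b : R, (a + b) ^ p = a ^ p + b ^ p) (n : ℕ)
    (a b : R) : (a + b) ^ p ^ n = a ^ p ^ n + b ^ p ^ n := by
  induction n with
  | zero => simp
  | succ n ih => rw [pow_succ, pow_mul, ih, h, pow_mul, pow_mul]

theorem neg_one_pow_of_add {R : Type*} [CommRing R] {n : ℕ} (hn : 0 < n) (h : ∀ a b : R, (a + b) ^ n = a ^ n + b ^ n) :
    (-1 : R) ^ n = -1 := by
  have := h 1 (-1)
  rw [add_neg_cancel, zero_pow hn.ne', one_pow] at this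
  linear_combination -this

namespace Twist

variable {D : Red.Pinning G} {D' : Red.Pinning G'} (T : Twist D D')

theorem q_pos (a : D.idx) : 0 < T.q a := by
  obtain ⟨n, hn⟩ := T.q_pow a
  rw [hn]; exact pow_pos T.p_pos n

/-- The power map of a root on functions. -/
def th (X : Over S) (c : D.idx) : Γ(X.left, ⊤) →+* Γ(X.left, ⊤) where
  toFun x := x ^ T.q c
  map_one' := one_pow _
  map_mul' x y := mul_pow x y _
  map_zero' := zero_pow (T.q_pos c).ne'
  map_add' x y := by
    obtain ⟨n, hn⟩ := T.q_pow c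
    simp only [hn]
    exact pow_add_pow (T.p_add X) n x y

theorem th_apply (X : Over S) (c : D.idx) (x : Γ(X.left, ⊤)) : T.th X c x = x ^ T.q c := rfl

theorem map_th {X X' : Over S} (g : X' ⟶ X) (c : D.idx) (x : Γ(X.left, ⊤)) :
    g.left.appTop (T.th X c x) = T.th X' c (g.left.appTop x) := map_pow g.left.appTop.hom x _

theorem th_sign (X : Over S) (c : D.idx) {e : ℤ} : T.th X c (e : Γ(X.left, ⊤)) = e := map_intCast _ _

theorem pmor : RootData.PMor D.P D'.P T.hM T.hM.dualMap T.d T.q where
  adj m' n := by rw [D.pairing_eq, D'.pairing_eq]; rfl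
  pos := T.q_pos
  root := T.root
  coroot := T.coroot

theorem pairing_eq (a b : D.idx) :
    (T.q b : ℤ) * D'.P.pairing (T.d a) (T.d b) = (T.q a : ℤ) * D.P.pairing a b :=
  T.pmor.pairing_eq a b

variable [Nonempty S]

theorem refl_d (a c : D.idx) : T.d (D.P.reflectionPerm a c) = D'.P.reflectionPerm (T.d a) (T.d c) := by
  haveI := RedRk29.isReduced D.toSplitRed
  exact (T.pmor.refl_apply a c).2

theorem refl_q (a c : D.idx) : T.q (D.P.reflectionPerm a c) = T.q c := by
  haveI := RedRk29.isReduced D.toSplitRed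
  exact (T.pmor.refl_apply a c).1

theorem d_neg (a : D.idx) : T.d (neg' D.toSplitRed a) = neg' D'.toSplitRed (T.d a) := T.refl_d a a

theorem q_neg (a : D.idx) : T.q (neg' D.toSplitRed a) = T.q a := T.refl_q a a

theorem th_refl (X : Over S) (a c : D.idx) : T.th X (D.P.reflectionPerm a c) = T.th X c := by
  ext x; rw [th_apply, th_apply, refl_q]

theorem off {a c : D.idx} (h : Off D a c) : Off D' (T.d a) (T.d c) :=
  ⟨fun e => h.1 (T.d.injective e), fun e => h.2 (T.d.injective (e.trans (T.d_neg a).symm))⟩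

theorem sign_height (c : D.idx) : 0 < D.base.height c ↔ 0 < D'.base.height (T.d c) := by
  have key : ∀ c, 0 < D.base.height c → 0 < D'.base.height (T.d c) := fun c hc => by
    induction hn : (D.base.height c).natAbs using Nat.strong_induction_on generalizing c with
    | _ n ih =>
      by_cases hs : ∃ a ∈ D.base.support, ¬ Off D a c
      · obtain ⟨a, ha, hca⟩ := hs
        rw [Off, not_and_or, not_not, not_not] at hca
        rcases hca with rfl | rfl
        · rw [RootPairing.Base.height_one_of_mem_support ((T.simple c).mp ha)]; exact one_pos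
        · rw [height_neg', RootPairing.Base.height_one_of_mem_support ha] at hc; omega
      · push Not at hs
        obtain ⟨a, ha, h⟩ := exists_descent hs
        have h' := sgn_reflect (.inl rfl) ha (hs a ha) (by rwa [one_mul])
        rw [one_mul] at h'
        have := ih _ (hn ▸ natAbs_height_reflect ha (hs a ha) h) _ h' rfl
        have h'' := sgn_reflect (D := D') (.inl rfl) ((T.simple a).mp ha) (c := T.d (D.P.reflectionPerm a c))
          (T.off ⟨fun e => (hs a ha).2 ((D.P.reflectionPerm a).injective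
              (e.trans (RootPairing.reflectionPerm_self D.P a a).symm)),
            fun e => (hs a ha).1 ((D.P.reflectionPerm a).injective e)⟩) (by rwa [one_mul])
        rwa [one_mul, ← T.refl_d, RootPairing.reflectionPerm_self] at h''
  refine ⟨key c, fun h => ?_⟩
  rcases (D.base.height_ne_zero c).lt_or_gt with h' | h'
  · have := key (neg' D.toSplitRed c) (by rw [height_neg']; omega)
    rw [d_neg, height_neg'] at this
    omega
  · exact h'

theorem descends {a c : D.idx} (h : 0 < D.base.height c * D.P.pairing c a) :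
    0 < D'.base.height (T.d c) * D'.P.pairing (T.d c) (T.d a) := by
  have e := T.pairing_eq c a
  have h1 : (0 : ℤ) < T.q a := by exact_mod_cast T.q_pos a
  have h2 : (0 : ℤ) < T.q c := by exact_mod_cast T.q_pos c
  have hne := D'.base.height_ne_zero (T.d c)
  rcases mul_pos_iff.mp h with ⟨hx, hy⟩ | ⟨hx, hy⟩
  · have hx' := (T.sign_height c).mp hx
    have : 0 < D'.P.pairing (T.d c) (T.d a) := by nlinarith
    positivity
  · have hx' : D'.base.height (T.d c) < 0 := by
      rcases hne.lt_or_gt with h' | h'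
      · exact h'
      · have := (T.sign_height c).mpr h'; omega
    have : D'.P.pairing (T.d c) (T.d a) < 0 := by nlinarith
    exact mul_pos_of_neg_of_neg hx' this

omit [Nonempty S]

/-- The map of tori. -/
def hT : D.T ⟶ D'.T := D.split.hom.hom.hom ≫ Red.DSmap S T.hM.toAddMonoidHom ≫ D'.split.inv.hom.hom

instance isMonHom_hT : IsMonHom T.hT := by
  haveI : IsMonHom D.split.hom.hom.hom := D.split.hom.hom.isMonHom_hom
  haveI : IsMonHom D'.split.inv.hom.hom := D'.split.inv.hom.isMonHom_hom
  haveI : IsMonHom (Red.DSmap S T.hM.toAddMonoidHom) := S5427.isMonHom_DSmap S _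
  unfold hT; infer_instance

theorem dsVal_hT {X : Over S} (t : X ⟶ D.T) (m : D'.M) :
    dsVal ((t ≫ T.hT) ≫ D'.split.hom.hom.hom) m = dsVal (t ≫ D.split.hom.hom.hom) (T.hM m) := by
  simp only [hT, Category.assoc]
  rw [show D'.split.inv.hom.hom ≫ D'.split.hom.hom.hom = 𝟙 _ from
    congrArg (fun k => k.hom.hom) D'.split.inv_hom_id, Category.comp_id, ← Category.assoc, dsVal_map]
  rfl

theorem rootVal_hT {X : Over S} (t : X ⟶ D.T) (c : D.idx) :
    rootVal D'.toSplitRed X (T.d c) (t ≫ T.hT) = rootVal D.toSplitRed X c t ^ T.q c := by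
  refine Units.ext ?_
  rw [rootVal_apply, dsVal_hT, T.root, natCast_zsmul, Units.val_pow_eq_pow_val, rootVal_apply]
  induction T.q c with
  | zero => rw [zero_smul, dsVal_zero, pow_zero]
  | succ n ih => rw [succ_nsmul, dsVal_add, ih, pow_succ]

theorem rootVal_hT_th {X : Over S} (t : X ⟶ D.T) (c : D.idx) :
    (rootVal D'.toSplitRed X (T.d c) (t ≫ T.hT) : Γ(X.left, ⊤)) = T.th X c (rootVal D.toSplitRed X c t) := by
  rw [rootVal_hT, Units.val_pow_eq_pow_val, th_apply]

theorem torus_ext {G : Over S} [GrpObj G] (D : Red.Pinning G) {X : Over S} {t t' : X ⟶ D.T}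
    (h : ∀ m, dsVal (t ≫ D.split.hom.hom.hom) m = dsVal (t' ≫ D.split.hom.hom.hom) m) : t = t' := by
  have h2 := congrArg (· ≫ D.split.inv.hom.hom) (ds_ext h)
  simp only [Category.assoc, show D.split.hom.hom.hom ≫ D.split.inv.hom.hom = 𝟙 _ from
    congrArg (fun k => k.hom.hom) D.split.hom_inv_id, Category.comp_id] at h2
  exact h2

theorem dsVal_av {G : Over S} [GrpObj G] (D : Red.Pinning G) {X : Over S} (a : D.idx) (z : Γ(X.left, ⊤)ˣ) (m : D.M) :
    dsVal (av D.toSplitRed X a z ≫ D.split.hom.hom.hom) m =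
      ((z ^ D.P.coroot a m : Γ(X.left, ⊤)ˣ) : Γ(X.left, ⊤)) := by
  show dsVal ((GmPts.ptOfUnit z ≫ corootHom D.toSplitRed a) ≫ D.split.hom.hom.hom) m = _
  simp only [corootHom, Category.assoc]
  rw [show D.split.inv.hom.hom ≫ D.split.hom.hom.hom = 𝟙 _ from congrArg (fun k => k.hom.hom) D.split.inv_hom_id,
    Category.comp_id, dsVal_map, dsVal_gm, GmPts.unitOfPt_ptOfUnit]
  rfl

theorem av_hT {X : Over S} (a : D.idx) (z : Γ(X.left, ⊤)ˣ) :
    av D.toSplitRed X a z ≫ T.hT = av D'.toSplitRed X (T.d a) (z ^ T.q a) := by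
  refine torus_ext D' fun m => ?_
  rw [dsVal_hT, dsVal_av, dsVal_av]
  congr 1
  rw [← zpow_natCast, ← zpow_mul]
  congr 1
  have := LinearMap.congr_fun (T.coroot a) m
  simpa using this

theorem neg_one_pow (X : Over S) (a : D.idx) : (-1 : Γ(X.left, ⊤)ˣ) ^ T.q a = -1 := by
  refine Units.ext ?_
  rw [Units.val_pow_eq_pow_val, Units.val_neg, Units.val_one, ← th_apply, map_neg, map_one]

theorem av_neg_one_hT (X : Over S) (a : D.idx) :
    I D'.toSplitRed X (av D.toSplitRed X a (-1) ≫ T.hT) = Zf D' (T.d a) X := by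
  rw [av_hT, neg_one_pow]; rfl

end Twist

end Groth.Agent.Twin38
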